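import Mathlib
import Cfsg.Prelude.Def_Characters
import Cfsg.Prelude.Def_Blocks
import Cfsg.Agent.Helper75.LatDefs
import Cfsg.Agent.Helper80.CharOrtho
import Cfsg.Agent.Helper3.Induced

/-!
# PIECE P6 (ISOTYPIC) of CALL S4441 (helper75) — helper80

For a complex matrix representation `ρ` and an irreducible character `χ`, the matrix
`isoIdem ρ χ = (χ(1)/|G|) ∑ χ(g⁻¹) ρ(g)` is an idempotent (`lat_isoIdem_idem`); if the trace of
`ρ` is `∑_{θ ∈ 𝒪} m θ · θ` these idempotents sum to `1` over `𝒪` (`lat_isoIdem_sum`) and, for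
`γ` commuting with `ρ`, the matrix `γ * isoIdem ρ χ` has at most `m χ` distinct non-zero
eigenvalues (`lat_isoIdem_count`).
-/

set_option autoImplicit false
open Cfsg Matrix
universe u

namespace Cfsg.Agent.Helper80

open scoped Classical ComplexConjugate

section LatP6

variable {G : Type u} [Group G] [Fintype G] {N : ℕ}

/-- Products of the class-sum elements of two irreducible characters. -/
theorem latP6_mul (ρ : G →* Matrix (Fin N) (Fin N) ℂ) (χ ψ : IrrCharacter G) :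
    (∑ g : G, (χ : G → ℂ) g⁻¹ • ρ g) * (∑ h : G, (ψ : G → ℂ) h⁻¹ • ρ h) =
      (if χ = ψ then (Fintype.card G : ℂ) / (ψ : G → ℂ) 1 else 0) •
        ∑ u : G, (ψ : G → ℂ) u⁻¹ • ρ u := by
  rw [Finset.sum_mul]
  have h1 : ∀ g : G, ((χ : G → ℂ) g⁻¹ • ρ g) * (∑ h : G, (ψ : G → ℂ) h⁻¹ • ρ h) =
      ∑ u : G, ((χ : G → ℂ) g⁻¹ * (ψ : G → ℂ) (g * u⁻¹)) • ρ u := by
    intro g
    rw [Finset.mul_sum, ← Equiv.sum_comp (Equiv.mulLeft g⁻¹)]
    apply Finset.sum_congr rfl
    intro u _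
    simp only [Equiv.coe_mulLeft]
    rw [smul_mul_assoc, mul_smul_comm, smul_smul, ← map_mul, mul_inv_cancel_left]
    congr 2
    rw [_root_.mul_inv_rev, inv_inv]
    exact isCharacter_mul_comm (isCharacter_of_irr ψ.2) _ _
  rw [Finset.sum_congr rfl (fun g _ => h1 g), Finset.sum_comm, Finset.smul_sum]
  apply Finset.sum_congr rfl
  intro u _
  rw [← Finset.sum_smul, smul_smul]
  congr 1
  rw [irr_conv χ ψ u⁻¹]
  split_ifs <;> ring

/-- `isoIdem ρ χ` commutes with `ρ`. -/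
theorem latP6_comm (ρ : G →* Matrix (Fin N) (Fin N) ℂ) (χ : IrrCharacter G) (a : G) :
    Helper75.isoIdem ρ (χ : G → ℂ) * ρ a = ρ a * Helper75.isoIdem ρ (χ : G → ℂ) := by
  unfold Helper75.isoIdem
  rw [smul_mul_assoc, mul_smul_comm, Finset.sum_mul, Finset.mul_sum]
  congr 1
  rw [← Equiv.sum_comp (Equiv.mulRight a⁻¹)]
  rw [← Equiv.sum_comp (Equiv.mulLeft a⁻¹) (fun y => ρ a * ((χ : G → ℂ) y⁻¹ • ρ y))]
  apply Finset.sum_congr rfl
  intro y _
  simp only [Equiv.coe_mulRight, Equiv.coe_mulLeft, smul_mul_assoc, mul_smul_comm]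
  rw [← map_mul, ← map_mul]
  have e1 : y * a⁻¹ * a = y := by group
  have e2 : a * (a⁻¹ * y) = y := by group
  have e3 : (χ : G → ℂ) (y * a⁻¹)⁻¹ = (χ : G → ℂ) (a⁻¹ * y)⁻¹ := by
    rw [_root_.mul_inv_rev, _root_.mul_inv_rev, inv_inv]
    exact isCharacter_mul_comm (isCharacter_of_irr χ.2) _ _
  rw [e1, e2, e3]

theorem latP6_card_ne : (Nat.card G : ℂ) ≠ 0 := by
  exact_mod_cast Nat.card_pos.ne'

/-- The trace of `isoIdem ρ χ`. -/
theorem latP6_trace (ρ : G →* Matrix (Fin N) (Fin N) ℂ) (𝒪 : Finset (IrrCharacter G))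
    (m : IrrCharacter G → ℕ)
    (htr : ∀ g : G, (ρ g).trace = ∑ θ ∈ 𝒪, (m θ : ℂ) * (θ : G → ℂ) g) (χ : IrrCharacter G) :
    (Helper75.isoIdem ρ (χ : G → ℂ)).trace = if χ ∈ 𝒪 then (m χ : ℂ) * (χ : G → ℂ) 1 else 0 := by
  unfold Helper75.isoIdem
  rw [Matrix.trace_smul, Matrix.trace_sum]
  have h1 : ∀ g : G, ((χ : G → ℂ) g⁻¹ • ρ g).trace =
      ∑ θ ∈ 𝒪, (m θ : ℂ) * ((θ : G → ℂ) g * (χ : G → ℂ) g⁻¹) := by
    intro g
    rw [Matrix.trace_smul, htr g, smul_eq_mul, Finset.mul_sum]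
    apply Finset.sum_congr rfl
    intro θ _
    ring
  rw [Finset.sum_congr rfl (fun g _ => h1 g), Finset.sum_comm]
  have h2 : ∀ θ ∈ 𝒪, ∑ g : G, (m θ : ℂ) * ((θ : G → ℂ) g * (χ : G → ℂ) g⁻¹) =
      if θ = χ then (m θ : ℂ) * (Fintype.card G : ℂ) else 0 := by
    intro θ _
    rw [← Finset.mul_sum, irr_orthogonality θ χ, mul_ite, mul_zero]
  rw [Finset.sum_congr rfl h2, Finset.sum_ite_eq' 𝒪 χ (fun θ => (m θ : ℂ) * (Fintype.card G : ℂ))]
  have hG : (Nat.card G : ℂ) ≠ 0 := latP6_card_ne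
  split_ifs
  · rw [smul_eq_mul, ← Nat.card_eq_fintype_card]
    field_simp
  · rw [smul_zero]

/-- PIECE P6, first theorem. -/
theorem lat_isoIdem_idem {G : Type u} [Group G] [Fintype G] {N : ℕ}
    (ρ : G →* Matrix (Fin N) (Fin N) ℂ) (χ : Cfsg.IrrCharacter G) :
    Helper75.isoIdem ρ (χ : G → ℂ) * Helper75.isoIdem ρ (χ : G → ℂ)
      = Helper75.isoIdem ρ (χ : G → ℂ) := by
  unfold Helper75.isoIdem
  rw [smul_mul_assoc, mul_smul_comm, latP6_mul ρ χ χ, if_pos rfl, smul_smul, smul_smul]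
  congr 1
  have hG : (Nat.card G : ℂ) ≠ 0 := latP6_card_ne
  have h1 : (χ : G → ℂ) 1 ≠ 0 := irr_one_ne_zero χ
  rw [← Nat.card_eq_fintype_card]
  field_simp

/-- An idempotent complex matrix of trace zero is zero. -/
theorem latP6_idem_trace_zero (e : Matrix (Fin N) (Fin N) ℂ) (he : e * e = e)
    (ht : e.trace = 0) : e = 0 := by
  have h1 : IsIdempotentElem (Matrix.toLin' e) := by
    show Matrix.toLin' e * Matrix.toLin' e = Matrix.toLin' e
    rw [Module.End.mul_eq_comp, ← Matrix.toLin'_mul, he]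
  have h2 : LinearMap.trace ℂ _ (Matrix.toLin' e) = 0 := by
    rw [Matrix.trace_toLin'_eq, ht]
  have h3 := LinearMap.IsIdempotentElem.eq_zero_of_trace_eq_zero h1 h2
  exact (LinearEquiv.map_eq_zero_iff Matrix.toLin').1 h3

/-- PIECE P6, second theorem. -/
theorem lat_isoIdem_sum {G : Type u} [Group G] [Fintype G] {N : ℕ}
    (ρ : G →* Matrix (Fin N) (Fin N) ℂ) (𝒪 : Finset (Cfsg.IrrCharacter G))
    (m : Cfsg.IrrCharacter G → ℕ)
    (htr : ∀ g : G, (ρ g).trace = ∑ θ ∈ 𝒪, (m θ : ℂ) * (θ : G → ℂ) g) :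
    ∑ χ ∈ 𝒪, Helper75.isoIdem ρ (χ : G → ℂ) = 1 := by
  have : Fintype (IrrCharacter G) := Fintype.ofFinite _
  have hG : (Nat.card G : ℂ) ≠ 0 := latP6_card_ne
  have hall : ∑ χ : IrrCharacter G, Helper75.isoIdem ρ (χ : G → ℂ) = 1 := by
    unfold Helper75.isoIdem
    have h1 : ∀ χ : IrrCharacter G,
        ((χ : G → ℂ) 1 / (Nat.card G : ℂ)) • ∑ g : G, (χ : G → ℂ) g⁻¹ • ρ g =
        ∑ g : G, ((Nat.card G : ℂ)⁻¹ * ((χ : G → ℂ) 1 * (χ : G → ℂ) g⁻¹)) • ρ g := by
      intro χ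
      rw [Finset.smul_sum]
      apply Finset.sum_congr rfl
      intro g _
      rw [smul_smul]
      congr 1
      field_simp
    rw [Finset.sum_congr rfl (fun χ _ => h1 χ), Finset.sum_comm]
    have h2 : ∀ g : G, ∑ χ : IrrCharacter G,
        ((Nat.card G : ℂ)⁻¹ * ((χ : G → ℂ) 1 * (χ : G → ℂ) g⁻¹)) • ρ g =
        (if g = 1 then (1 : ℂ) else 0) • ρ g := by
      intro g
      rw [← Finset.sum_smul, ← Finset.mul_sum, irr_sum_degree_mul g⁻¹]
      congr 1
      by_cases hg : g = 1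
      · rw [if_pos (by rw [hg, inv_one]), if_pos hg, ← Nat.card_eq_fintype_card,
          inv_mul_cancel₀ hG]
      · rw [if_neg (by rw [inv_eq_one]; exact hg), if_neg hg, mul_zero]
    rw [Finset.sum_congr rfl (fun g _ => h2 g)]
    simp only [ite_smul, one_smul, zero_smul]
    rw [Finset.sum_ite_eq' Finset.univ (1 : G) (fun g => ρ g), if_pos (Finset.mem_univ _), map_one]
  rw [← hall]
  apply Finset.sum_subset (Finset.subset_univ _)
  intro χ _ hχ
  apply latP6_idem_trace_zero _ (lat_isoIdem_idem ρ χ)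
  rw [latP6_trace ρ 𝒪 m htr χ, if_neg hχ]

/-- The eigenspaces for non-zero eigenvalues of a matrix `T = γ * e_χ` commuting with `ρ` have
dimension at least `χ(1)`. -/
theorem latP6_eigenspace (ρ : G →* Matrix (Fin N) (Fin N) ℂ) (χ : IrrCharacter G)
    (T : Matrix (Fin N) (Fin N) ℂ) (hTρ : ∀ g : G, T * ρ g = ρ g * T)
    (hTe : Helper75.isoIdem ρ (χ : G → ℂ) * T = T) (μ : ℂ) (hμ0 : μ ≠ 0)
    (hev : Module.End.HasEigenvalue (Matrix.toLin' T) μ) :
    charDegree (χ : G → ℂ) ≤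
      Module.finrank ℂ (Module.End.eigenspace (Matrix.toLin' T) μ) := by
  obtain ⟨W, hW⟩ : ∃ W : Submodule ℂ (Fin N → ℂ), W = Module.End.eigenspace (Matrix.toLin' T) μ :=
    ⟨_, rfl⟩
  rw [← hW]
  have hWmem : ∀ v : Fin N → ℂ, v ∈ W ↔ T *ᵥ v = μ • v := by
    intro v
    rw [hW, Module.End.mem_eigenspace_iff, Matrix.toLin'_apply]
  have hinv : ∀ g : G, ∀ w ∈ W, Matrix.toLin' (ρ g) w ∈ W := by
    intro g w hw
    rw [hWmem] at hw ⊢
    rw [Matrix.toLin'_apply, Matrix.mulVec_mulVec, hTρ g, ← Matrix.mulVec_mulVec, hw,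
      Matrix.mulVec_smul]
  let σ : Representation ℂ G W :=
    { toFun := fun g => (Matrix.toLin' (ρ g)).restrict (hinv g)
      map_one' := by
        apply LinearMap.ext
        intro w
        apply Subtype.ext
        simp
      map_mul' := by
        intro g h
        apply LinearMap.ext
        intro w
        apply Subtype.ext
        simp [Matrix.toLin'_mul] }
  have hσ : ∀ (g : G) (w : W), ((σ g w : W) : Fin N → ℂ) = ρ g *ᵥ (w : Fin N → ℂ) := by
    intro g w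
    show (((Matrix.toLin' (ρ g)).restrict (hinv g) w : W) : Fin N → ℂ) = _
    rw [LinearMap.coe_restrict_apply, Matrix.toLin'_apply]
  -- `e_χ` is the identity on `W`
  have hfix : ∀ w ∈ W, Helper75.isoIdem ρ (χ : G → ℂ) *ᵥ w = w := by
    intro w hw
    rw [hWmem] at hw
    have h1 : Helper75.isoIdem ρ (χ : G → ℂ) *ᵥ (μ • w) = μ • w := by
      rw [← hw, Matrix.mulVec_mulVec, hTe]
    rw [Matrix.mulVec_smul] at h1
    exact smul_right_injective _ hμ0 h1
  have hA : ∑ g : G, (((χ : G → ℂ) 1 / (Nat.card G : ℂ)) * (χ : G → ℂ) g⁻¹) • σ g =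
      (1 : Module.End ℂ W) := by
    apply LinearMap.ext
    intro w
    apply Subtype.ext
    rw [LinearMap.sum_apply, Submodule.coe_sum]
    have h1 : ∀ g : G, ((((((χ : G → ℂ) 1 / (Nat.card G : ℂ)) * (χ : G → ℂ) g⁻¹) • σ g) w : W) :
        Fin N → ℂ) = (((χ : G → ℂ) 1 / (Nat.card G : ℂ)) • ((χ : G → ℂ) g⁻¹ • ρ g)) *ᵥ
          (w : Fin N → ℂ) := by
      intro g
      rw [LinearMap.smul_apply, Submodule.coe_smul, hσ, smul_smul, Matrix.smul_mulVec]
    rw [Finset.sum_congr rfl (fun g _ => h1 g), ← Matrix.sum_mulVec, ← Finset.smul_sum]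
    exact hfix w w.2
  have htrace := congrArg (LinearMap.trace ℂ W) hA
  rw [map_sum, LinearMap.trace_one] at htrace
  have hψ : IsCharacter G σ.character := rep_isCharacter σ
  obtain ⟨n, hn⟩ := Helper3.classInner_isCharacter_nat hψ (isCharacter_of_irr χ.2)
  have hG : (Nat.card G : ℂ) ≠ 0 := latP6_card_ne
  have hd1 : (χ : G → ℂ) 1 = (charDegree (χ : G → ℂ) : ℂ) := irr_one_eq χ
  have hsum : ∑ g : G, LinearMap.trace ℂ W ((((χ : G → ℂ) 1 / (Nat.card G : ℂ)) *
      (χ : G → ℂ) g⁻¹) • σ g) = (charDegree (χ : G → ℂ) : ℂ) * (n : ℂ) := by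
    rw [← hn, ← hd1]
    unfold classInner
    rw [Finset.mul_sum, Finset.mul_sum]
    apply Finset.sum_congr rfl
    intro g _
    rw [map_smul, smul_eq_mul, ← isCharacter_inv (isCharacter_of_irr χ.2)]
    rw [show LinearMap.trace ℂ W (σ g) = σ.character g from rfl]
    field_simp
  rw [hsum] at htrace
  have hnat : charDegree (χ : G → ℂ) * n = Module.finrank ℂ W := by exact_mod_cast htrace
  have hWne : W ≠ ⊥ := by rw [hW]; exact hev
  have hpos : 0 < Module.finrank ℂ W := by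
    rw [Module.finrank_pos_iff_exists_ne_zero]
    obtain ⟨w, hw, hw0⟩ := (Submodule.ne_bot_iff W).1 hWne
    exact ⟨⟨w, hw⟩, fun h => hw0 (congrArg Subtype.val h)⟩
  rw [← hnat] at hpos ⊢
  have hn1 : 1 ≤ n := by
    rcases Nat.eq_zero_or_pos n with h | h
    · rw [h, mul_zero] at hpos; exact absurd hpos (lt_irrefl 0)
    · exact h
  exact Nat.le_mul_of_pos_right _ hn1

/-- PIECE P6, third theorem. -/
theorem lat_isoIdem_count {G : Type u} [Group G] [Fintype G] {N : ℕ}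
    (ρ : G →* Matrix (Fin N) (Fin N) ℂ) (𝒪 : Finset (Cfsg.IrrCharacter G))
    (m : Cfsg.IrrCharacter G → ℕ)
    (htr : ∀ g : G, (ρ g).trace = ∑ θ ∈ 𝒪, (m θ : ℂ) * (θ : G → ℂ) g)
    (γ : Matrix (Fin N) (Fin N) ℂ) (hγ : ∀ g : G, γ * ρ g = ρ g * γ)
    (χ : Cfsg.IrrCharacter G) (hχ : χ ∈ 𝒪) :
    (((γ * Helper75.isoIdem ρ (χ : G → ℂ)).charpoly.roots.toFinset.erase 0).card ≤ m χ) := by
  obtain ⟨e, he⟩ : ∃ e : Matrix (Fin N) (Fin N) ℂ, e = Helper75.isoIdem ρ (χ : G → ℂ) :=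
    ⟨_, rfl⟩
  rw [← he]
  have hidem : e * e = e := by rw [he]; exact lat_isoIdem_idem ρ χ
  have hcomm_ρ : ∀ g, e * ρ g = ρ g * e := by intro g; rw [he]; exact latP6_comm ρ χ g
  have hcomm_γ : γ * e = e * γ := by
    rw [he]
    unfold Helper75.isoIdem
    rw [mul_smul_comm, smul_mul_assoc, Finset.mul_sum, Finset.sum_mul]
    congr 1
    apply Finset.sum_congr rfl
    intro g _
    rw [mul_smul_comm, smul_mul_assoc, hγ g]
  obtain ⟨T, hT⟩ : ∃ T : Matrix (Fin N) (Fin N) ℂ, T = γ * e := ⟨_, rfl⟩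
  rw [← hT]
  have hTρ : ∀ g, T * ρ g = ρ g * T := by
    intro g
    rw [hT, mul_assoc, hcomm_ρ g, ← mul_assoc, hγ g, mul_assoc]
  have hTe : e * T = T := by
    rw [hT, ← mul_assoc, ← hcomm_γ, mul_assoc, hidem]
  obtain ⟨d, hd⟩ : ∃ d : ℕ, d = charDegree (χ : G → ℂ) := ⟨_, rfl⟩
  have hd1 : (χ : G → ℂ) 1 = (d : ℂ) := by rw [hd]; exact irr_one_eq χ
  have hdpos : 0 < d := by rw [hd]; exact irr_degree_pos χ
  have htre : e.trace = ((m χ * d : ℕ) : ℂ) := by
    rw [he, latP6_trace ρ 𝒪 m htr χ, if_pos hχ, hd1]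
    push_cast
    ring
  have he'idem : IsIdempotentElem (Matrix.toLin' e) := by
    show Matrix.toLin' e * Matrix.toLin' e = Matrix.toLin' e
    rw [Module.End.mul_eq_comp, ← Matrix.toLin'_mul, hidem]
  have hrange : Module.finrank ℂ (LinearMap.range (Matrix.toLin' e)) = m χ * d := by
    have h1 := (LinearMap.IsIdempotentElem.isProj_range _ he'idem).trace
    rw [Matrix.trace_toLin'_eq, htre] at h1
    exact_mod_cast h1.symm
  have hker : Module.finrank ℂ (LinearMap.ker (Matrix.toLin' e)) + m χ * d = N := by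
    have := LinearMap.finrank_range_add_finrank_ker (Matrix.toLin' e)
    rw [hrange, Module.finrank_fin_fun] at this
    omega
  have hmult0 : N ≤ T.charpoly.rootMultiplicity 0 + m χ * d := by
    have h1 : LinearMap.ker (Matrix.toLin' e) ≤ Module.End.maxGenEigenspace (Matrix.toLin' T) 0 := by
      intro v hv
      rw [Module.End.mem_maxGenEigenspace]
      refine ⟨1, ?_⟩
      rw [zero_smul, sub_zero, pow_one, hT, Matrix.toLin'_mul, LinearMap.comp_apply,
        LinearMap.mem_ker.1 hv, map_zero]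
    have h2 := Submodule.finrank_mono h1
    rw [LinearMap.finrank_maxGenEigenspace_eq, Matrix.charpoly_toLin'] at h2
    omega
  have heig : ∀ μ ∈ T.charpoly.roots.toFinset.erase 0, d ≤ T.charpoly.rootMultiplicity μ := by
    intro μ hμ
    rw [Finset.mem_erase, Multiset.mem_toFinset] at hμ
    have hroot : T.charpoly.IsRoot μ := (Polynomial.mem_roots'.1 hμ.2).2
    have hev : Module.End.HasEigenvalue (Matrix.toLin' T) μ := by
      rw [Module.End.hasEigenvalue_iff_isRoot_charpoly, Matrix.charpoly_toLin']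
      exact hroot
    have h1 := LinearMap.finrank_eigenspace_le (Matrix.toLin' T) μ
    rw [Matrix.charpoly_toLin'] at h1
    refine le_trans ?_ h1
    rw [hd]
    exact latP6_eigenspace ρ χ T hTρ (by rw [← he]; exact hTe) μ hμ.1 hev
  have hcard : ∑ μ ∈ T.charpoly.roots.toFinset, T.charpoly.rootMultiplicity μ = N := by
    have h1 := Multiset.toFinset_sum_count_eq T.charpoly.roots
    rw [IsAlgClosed.card_roots_eq_natDegree, Matrix.charpoly_natDegree_eq_dim,
      Fintype.card_fin] at h1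
    exact (Finset.sum_congr rfl (fun μ _ => (Polynomial.count_roots T.charpoly).symm)).trans h1
  have hsplit : ∑ μ ∈ T.charpoly.roots.toFinset.erase 0, T.charpoly.rootMultiplicity μ
      + T.charpoly.rootMultiplicity 0 = N := by
    by_cases h0 : (0 : ℂ) ∈ T.charpoly.roots.toFinset
    · rw [Finset.sum_erase_add _ _ h0, hcard]
    · rw [Finset.erase_eq_of_notMem h0, hcard]
      have : T.charpoly.rootMultiplicity 0 = 0 := by
        rw [← Polynomial.count_roots]
        exact Multiset.count_eq_zero_of_notMem (fun h => h0 (Multiset.mem_toFinset.2 h))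
      rw [this, add_zero]
  have hle : (T.charpoly.roots.toFinset.erase 0).card * d ≤
      ∑ μ ∈ T.charpoly.roots.toFinset.erase 0, T.charpoly.rootMultiplicity μ := by
    rw [← smul_eq_mul, ← Finset.sum_const]
    exact Finset.sum_le_sum heig
  have hfinal : (T.charpoly.roots.toFinset.erase 0).card * d ≤ m χ * d := by omega
  exact Nat.le_of_mul_le_mul_right hfinal hdpos

end LatP6

end Cfsg.Agent.Helper80
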