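import Mathlib
import Cfsg.Prelude.Def_Characters
import Cfsg.Agent.Helper79.Linear
import Cfsg.Agent.Helper80.CharIrr

/-!
# Linear characters as homomorphisms `G →* ℂˣ` (helper80)

* `homIrr f`: the irreducible character of a homomorphism `f : G →* ℂˣ`; injective; every
  irreducible character of degree one is of this form (`exists_hom_of_linear`).
* `finite_hom`, `card_hom`: `G →* ℂˣ` is finite of cardinality `[G : G']`.
* `hom_orthogonality`: orthogonality of homomorphisms to `ℂˣ`.
* `card_twist_stabilizer_le`: at most `χ(1)²` linear characters `f` satisfy `f χ = χ`.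
-/

set_option autoImplicit false

namespace Cfsg.Agent.Helper80

open Cfsg

open scoped ComplexConjugate

universe u

variable {G : Type u} [Group G]

/-- The irreducible character afforded by a homomorphism to `ℂˣ`. -/
noncomputable def homIrr (f : G →* ℂˣ) : IrrCharacter G :=
  ⟨fun g => ((f g : ℂˣ) : ℂ), Helper79.isIrrCharacter_of_hom f⟩

@[simp] theorem homIrr_apply (f : G →* ℂˣ) (g : G) :
    (homIrr f : G → ℂ) g = ((f g : ℂˣ) : ℂ) := rfl

theorem homIrr_injective : Function.Injective (homIrr (G := G)) := by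
  intro f f' h
  ext g
  have h1 : (homIrr f : G → ℂ) g = (homIrr f' : G → ℂ) g := by rw [h]
  exact h1

theorem charDegree_homIrr (f : G →* ℂˣ) : charDegree (homIrr f : G → ℂ) = 1 := by
  unfold charDegree
  rw [homIrr_apply, map_one]
  simp

theorem exists_hom_of_linear [Finite G] (χ : IrrCharacter G)
    (h : charDegree (χ : G → ℂ) = 1) : ∃ f : G →* ℂˣ, homIrr f = χ := by
  have h1 : (χ : G → ℂ) 1 = 1 := by
    rw [Helper79.isCharacter_one_eq_charDegree (Helper79.irr_isCharacter χ), h]; simp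
  obtain ⟨f, hf⟩ := Helper79.isCharacter_linear (Helper79.irr_isCharacter χ) h1
  refine ⟨f, ?_⟩
  apply Subtype.ext
  funext g
  exact (hf g).symm

theorem finite_hom [Finite G] : Finite (G →* ℂˣ) := by
  have : Finite (IrrCharacter G) := inferInstance
  exact Finite.of_injective homIrr homIrr_injective

/-- The number of homomorphisms `G →* ℂˣ` is the index of the commutator subgroup. -/
theorem card_hom [Finite G] : Nat.card (G →* ℂˣ) = (commutator G).index := by
  have : Finite (Abelianization G) := by unfold Abelianization; infer_instance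
  rw [Nat.card_congr (Abelianization.lift (G := G) (A := ℂˣ)),
    CommGroup.card_monoidHom_of_hasEnoughRootsOfUnity (Abelianization G) ℂ]
  rfl

/-- Orthogonality of homomorphisms to `ℂˣ`. -/
theorem hom_orthogonality [Fintype G] (f f' : G →* ℂˣ) :
    ∑ g : G, ((f g : ℂˣ) : ℂ) * conj ((f' g : ℂˣ) : ℂ) =
      if f = f' then (Fintype.card G : ℂ) else 0 := by
  have h := irr_orthogonality_conj (homIrr f) (homIrr f')
  simp only [homIrr_apply] at h
  rw [h]
  by_cases hff : f = f'
  · rw [if_pos hff, if_pos (by rw [hff])]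
  · rw [if_neg hff, if_neg (fun h => hff (homIrr_injective h))]

/-- At most `χ(1)²` linear characters `f` satisfy `f χ = χ`. -/
theorem card_twist_stabilizer_le [Fintype G] (χ : IrrCharacter G) (S : Finset (G →* ℂˣ))
    (hS : ∀ f ∈ S, Helper79.irrTwist f χ = χ) : S.card ≤ charDegree (χ : G → ℂ) ^ 2 := by
  classical
  by_cases hS0 : S.card = 0
  · rw [hS0]; exact Nat.zero_le _
  have hSpos : (0 : ℝ) < S.card := by exact_mod_cast Nat.pos_of_ne_zero hS0
  have hGpos : (0 : ℝ) < Fintype.card G := by exact_mod_cast Fintype.card_pos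
  set F : G → ℂ := fun g => ∑ f ∈ S, ((f g : ℂˣ) : ℂ) with hF
  -- (i) on the support of χ, F = |S|
  have h1 : ∀ g : G, (χ : G → ℂ) g ≠ 0 → F g = (S.card : ℂ) := by
    intro g hg
    have h2 : ∀ f ∈ S, ((f g : ℂˣ) : ℂ) = 1 := by
      intro f hf
      have h3 : (Helper79.irrTwist f χ : G → ℂ) g = (χ : G → ℂ) g := by rw [hS f hf]
      rw [Helper79.irrTwist_apply] at h3
      exact mul_right_cancel₀ hg (by rw [h3, one_mul])
    rw [hF]
    simp only
    rw [Finset.sum_congr rfl h2, Finset.sum_const, nsmul_eq_mul, mul_one]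
  -- (ii) ∑ |F|² = |S| |G|
  have h2 : ∑ g : G, Complex.normSq (F g) = (S.card : ℝ) * (Fintype.card G : ℝ) := by
    have h3 : ∑ g : G, F g * conj (F g) = (S.card : ℂ) * (Fintype.card G : ℂ) := by
      have h4 : ∀ g : G, F g * conj (F g) =
          ∑ f ∈ S, ∑ f' ∈ S, ((f g : ℂˣ) : ℂ) * conj ((f' g : ℂˣ) : ℂ) := by
        intro g
        rw [hF]
        simp only
        rw [map_sum, Finset.sum_mul_sum]
      rw [Finset.sum_congr rfl (fun g _ => h4 g), Finset.sum_comm]
      have h5 : ∀ f ∈ S, ∑ g : G, ∑ f' ∈ S, ((f g : ℂˣ) : ℂ) * conj ((f' g : ℂˣ) : ℂ) =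
          (Fintype.card G : ℂ) := by
        intro f hf
        rw [Finset.sum_comm, Finset.sum_congr rfl (fun f' _ => hom_orthogonality f f'),
          Finset.sum_ite_eq S f, if_pos hf]
      rw [Finset.sum_congr rfl h5, Finset.sum_const, nsmul_eq_mul]
    have h6 : ((∑ g : G, Complex.normSq (F g) : ℝ) : ℂ) =
        (((S.card : ℝ) * (Fintype.card G : ℝ) : ℝ) : ℂ) := by
      push_cast
      rw [← h3]
      exact Finset.sum_congr rfl (fun g _ => (Complex.mul_conj (F g)).symm)
    exact_mod_cast h6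
  -- ∑ |χ|² = |G|
  have h3 : ∑ g : G, Complex.normSq ((χ : G → ℂ) g) = (Fintype.card G : ℝ) := by
    have h4 := irr_orthogonality_conj χ χ
    rw [if_pos rfl] at h4
    have h6 : ((∑ g : G, Complex.normSq ((χ : G → ℂ) g) : ℝ) : ℂ) =
        ((Fintype.card G : ℝ) : ℂ) := by
      push_cast
      rw [← h4]
      exact Finset.sum_congr rfl (fun g _ => (Complex.mul_conj _).symm)
    exact_mod_cast h6
  -- (iii)
  have h4 : ∑ g : G, Complex.normSq ((χ : G → ℂ) g) * Complex.normSq (F g) =
      (S.card : ℝ) ^ 2 * (Fintype.card G : ℝ) := by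
    have h5 : ∀ g : G, Complex.normSq ((χ : G → ℂ) g) * Complex.normSq (F g) =
        (S.card : ℝ) ^ 2 * Complex.normSq ((χ : G → ℂ) g) := by
      intro g
      by_cases hg : (χ : G → ℂ) g = 0
      · rw [hg]; simp
      · rw [h1 g hg, Complex.normSq_natCast]; ring
    rw [Finset.sum_congr rfl (fun g _ => h5 g), ← Finset.mul_sum, h3]
  -- (iv)
  have h5 : ∀ g : G, Complex.normSq ((χ : G → ℂ) g) ≤ ((charDegree (χ : G → ℂ) : ℝ)) ^ 2 := by
    intro g
    rw [Complex.normSq_eq_norm_sq]
    have := isCharacter_norm_le (Helper79.irr_isCharacter χ) g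
    exact pow_le_pow_left₀ (norm_nonneg _) this 2
  have h6 : (S.card : ℝ) ^ 2 * (Fintype.card G : ℝ) ≤
      ((charDegree (χ : G → ℂ) : ℝ)) ^ 2 * ((S.card : ℝ) * (Fintype.card G : ℝ)) := by
    rw [← h4, ← h2, Finset.mul_sum]
    apply Finset.sum_le_sum
    intro g _
    exact mul_le_mul_of_nonneg_right (h5 g) (Complex.normSq_nonneg _)
  have h7 : (S.card : ℝ) ≤ ((charDegree (χ : G → ℂ) : ℝ)) ^ 2 := by
    have h8 : (S.card : ℝ) * ((S.card : ℝ) * (Fintype.card G : ℝ)) ≤
        ((charDegree (χ : G → ℂ) : ℝ)) ^ 2 * ((S.card : ℝ) * (Fintype.card G : ℝ)) := by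
      calc (S.card : ℝ) * ((S.card : ℝ) * (Fintype.card G : ℝ))
          = (S.card : ℝ) ^ 2 * (Fintype.card G : ℝ) := by ring
        _ ≤ _ := h6
    exact le_of_mul_le_mul_right h8 (mul_pos hSpos hGpos)
  exact_mod_cast h7

end Cfsg.Agent.Helper80
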