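import Mathlib
import Cfsg.Agent.Helper94.S43Defs

/-! Piece HEL of CALL S43 (helper94): elements of `H`. -/

set_option autoImplicit false

namespace Cfsg.Agent.Helper80.S43HEL

open Matrix Cfsg.Agent.Helper71.T4 Cfsg.Agent.Helper94.S43
open Cfsg.Agent.Helper71.SO (bl ruw Nuw)
open scoped Kronecker

variable {F : Type*} [Field F]

theorem mid4_sp (θ : Matrix (Fin 2) (Fin 2) F) (hθ : θ.det = 1) :
    (mid4 θ)ᵀ * J4 F * mid4 θ = J4 F := by
  rw [Matrix.det_fin_two] at hθ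
  ext i j
  fin_cases i <;> fin_cases j <;>
    simp [mid4, J4, Matrix.mul_apply, Fin.sum_univ_four] <;>
    first | linear_combination hθ | linear_combination -hθ | ring

theorem uq4_sp (x₁ x₂ z : F) : (uq4 x₁ x₂ z)ᵀ * J4 F * uq4 x₁ x₂ z = J4 F := by
  ext i j
  fin_cases i <;> fin_cases j <;>
    simp [uq4, J4, Matrix.mul_apply, Fin.sum_univ_four] <;> ring

theorem uq4_kron (x₁ x₂ z : F) :
    uq4 x₁ x₂ z ⊗ₖ (1 : Matrix (Fin 3) (Fin 3) F)
      = qmat (x₁ • 1) (x₂ • 1) (z • 1) (x₂ • 1) (-x₁ • 1) := by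
  apply bk_ext
  intro i j
  rw [bk_kron]
  unfold qmat
  simp only [bk_add, bk_one, bk_EK]
  fin_cases i <;> fin_cases j <;> simp [uq4]

theorem hasH_kron_one (S : Matrix (Fin 3) (Fin 3) F) (M : Subgroup (GL (Fin 4 × Fin 3) F))
    (hH : HasH4 S M) (A : Matrix (Fin 4) (Fin 4) F) (hA : Aᵀ * J4 F * A = J4 F) :
    InM M (A ⊗ₖ (1 : Matrix (Fin 3) (Fin 3) F)) := by
  apply hH A 1 1 1
  · rw [hA, one_smul]
  · rw [Matrix.transpose_one, Matrix.one_mul, Matrix.mul_one, one_smul]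
  · exact mul_one 1

theorem hasH_one_kron (S : Matrix (Fin 3) (Fin 3) F) (M : Subgroup (GL (Fin 4 × Fin 3) F))
    (hH : HasH4 S M) (B : Matrix (Fin 3) (Fin 3) F) (hB : Bᵀ * S * B = S) :
    InM M ((1 : Matrix (Fin 4) (Fin 4) F) ⊗ₖ B) := by
  apply hH 1 B 1 1
  · rw [Matrix.transpose_one, Matrix.one_mul, Matrix.mul_one, one_smul]
  · rw [hB, one_smul]
  · exact mul_one 1

end Cfsg.Agent.Helper80.S43HEL
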