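import Cfsg.Agent.Helper80.CharNormal
import Cfsg.Agent.Helper79.Quotient
import Cfsg.Agent.Helper3.Integral

/-!
# Kernels, codegrees and characters of quotients (helper80)

* `irr_degree_mul_card_ker_dvd`: `χ(1) * |ker χ|` divides `|G|`.
* `irr_sum_sq_of_le_ker`: `∑_{χ : N ≤ ker χ} χ(1)² = [G : N]` for `N ⊴ G`.
-/

set_option autoImplicit false

namespace Cfsg.Agent.Helper80

open Cfsg

open scoped ComplexConjugate Classical

variable {G : Type*} [Group G] [Finite G]

/-- `χ(1) · |ker χ|` divides `|G|`. -/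
theorem irr_degree_mul_card_ker_dvd (χ : IrrCharacter G) :
    charDegree (χ : G → ℂ) * Nat.card {g : G // (χ : G → ℂ) g = (χ : G → ℂ) 1} ∣ Nat.card G := by
  set K := Cfsg.Agent.Helper79.charKer (isCharacter_of_irr χ.2) with hK
  haveI : K.Normal := Cfsg.Agent.Helper79.charKer_normal _
  obtain ⟨ψ, hψ, hψχ⟩ := Cfsg.Agent.Helper79.exists_irr_deflation K χ.2 (fun x hx => hx)
  obtain ⟨n, ρ, hρ, hρψ⟩ := hψ
  haveI := hρ
  have h1 : n ∣ Nat.card (G ⧸ K) := by
    have := Cfsg.Agent.Helper3.finrank_dvd_card ρ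
    simpa using this
  have h2 : charDegree (χ : G → ℂ) = n := by
    have h3 : (χ : G → ℂ) 1 = (n : ℂ) := by
      rw [← hψχ 1, ← hρψ, QuotientGroup.mk_one, Representation.char_one]
      simp
    rw [charDegree, h3]
    simp
  have h4 : Nat.card G = Nat.card (G ⧸ K) * Nat.card K :=
    Subgroup.card_eq_card_quotient_mul_card_subgroup K
  have h5 : Nat.card K = Nat.card {g : G // (χ : G → ℂ) g = (χ : G → ℂ) 1} := rfl
  rw [h4, h2, ← h5]
  exact Nat.mul_dvd_mul h1 dvd_rfl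

/-- `∑_{χ : N ≤ ker χ} χ(1)² = [G : N]`. -/
theorem irr_sum_sq_of_le_ker [Fintype (IrrCharacter G)] (N : Subgroup G) [N.Normal] :
    ∑ χ ∈ Finset.univ.filter (fun χ : IrrCharacter G =>
        ∀ n ∈ N, (χ : G → ℂ) n = (χ : G → ℂ) 1), charDegree (χ : G → ℂ) ^ 2 = N.index := by
  letI := Fintype.ofFinite G
  letI : Fintype N := Fintype.ofFinite N
  have hN : (Fintype.card N : ℂ) ≠ 0 := by exact_mod_cast Fintype.card_ne_zero
  -- double count `∑_{n ∈ N} ∑_χ χ(1) χ(n)`
  have h1 : ∑ n : N, ∑ χ : IrrCharacter G, (χ : G → ℂ) 1 * (χ : G → ℂ) (n : G) =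
      (Fintype.card G : ℂ) := by
    rw [Finset.sum_eq_single (1 : N)]
    · rw [Subgroup.coe_one, irr_sum_degree_mul, if_pos rfl]
    · intro n _ hn
      have : (n : G) ≠ 1 := fun h => hn (Subtype.ext h)
      exact irr_sum_degree_mul_of_ne_one this
    · intro h; exact absurd (Finset.mem_univ _) h
  rw [Finset.sum_comm] at h1
  have h2 : ∀ χ : IrrCharacter G, ∑ n : N, (χ : G → ℂ) 1 * (χ : G → ℂ) (n : G) =
      if (∀ n ∈ N, (χ : G → ℂ) n = (χ : G → ℂ) 1) then
        (Fintype.card N : ℂ) * ((charDegree (χ : G → ℂ) ^ 2 : ℕ) : ℂ) else 0 := by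
    intro χ
    rw [← Finset.mul_sum]
    by_cases hc : ∀ n ∈ N, (χ : G → ℂ) n = (χ : G → ℂ) 1
    · rw [if_pos hc, sum_subgroup_of_le_ker _ N hc, irr_one_eq]
      push_cast; ring
    · rw [if_neg hc]
      rcases irr_sum_normal χ N with h | h
      · rw [h, mul_zero]
      · exact absurd h hc
  rw [Finset.sum_congr rfl (fun χ _ => h2 χ), ← Finset.sum_filter, ← Finset.mul_sum,
    ← Nat.cast_sum] at h1
  have h3 : Fintype.card N * ∑ χ ∈ Finset.univ.filter (fun χ : IrrCharacter G =>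
      ∀ n ∈ N, (χ : G → ℂ) n = (χ : G → ℂ) 1), charDegree (χ : G → ℂ) ^ 2 = Fintype.card G := by
    exact_mod_cast h1
  have h4 : Nat.card N * N.index = Nat.card G := N.card_mul_index
  rw [← Nat.card_eq_fintype_card, ← Nat.card_eq_fintype_card, ← h4] at h3
  have h5 := Nat.eq_of_mul_eq_mul_left Nat.card_pos h3
  convert h5

end Cfsg.Agent.Helper80
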