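import Mathlib

/-!
# PIECE LA0 of CALL S2358 (helper6): a Frobenius eigenbasis for an element of order `p`
in `GL_7(q)` when `q` has order `6` modulo `p` (helper80)
-/

set_option autoImplicit false

namespace Cfsg.Agent.Helper80

open Matrix

/-- A matrix of order dividing `p` over a finite field with `q` elements, `q ≢ 1`, `q ^ 6 ≡ 1`
modulo `p`, has a non-zero fixed vector in dimension `7`. -/
theorem ree2358_exists_fixed {K : Type*} [Field K] [Fintype K] {p : ℕ} (hp : p.Prime)
    (hord1 : ¬ p ∣ Fintype.card K ^ 1 - 1)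
    (h6 : p ∣ Fintype.card K ^ 6 - 1)
    (A : Matrix (Fin 7) (Fin 7) K) (hA : A ^ p = 1) :
    ∃ v₀ : Fin 7 → K, v₀ ≠ 0 ∧ A.mulVec v₀ = v₀ := by
  classical
  by_contra hcon
  push Not at hcon
  have : Fact p.Prime := ⟨hp⟩
  let f : Function.End (Fin 7 → K) := fun v => A.mulVec v
  have hpow : ∀ k : ℕ, f ^ k = fun v => (A ^ k).mulVec v := by
    intro k
    induction k with
    | zero =>
      rw [pow_zero, pow_zero]
      funext v
      rw [Matrix.one_mulVec]
      rfl
    | succ k ih =>
      rw [pow_succ, ih]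
      funext v
      show (A ^ k).mulVec (A.mulVec v) = (A ^ (k + 1)).mulVec v
      rw [Matrix.mulVec_mulVec, ← pow_succ]
  have hf : f ^ p ^ 1 = 1 := by
    rw [pow_one, hpow, hA]
    funext v
    rw [Matrix.one_mulVec]
    rfl
  have hmod := Equiv.Perm.card_fixedPoints_modEq (f := f) hf
  have hfix : Fintype.card (Function.fixedPoints f) = 1 := by
    rw [Fintype.card_eq_one_iff]
    refine ⟨⟨0, ?_⟩, ?_⟩
    · show A.mulVec 0 = 0
      simp
    · rintro ⟨v, hv⟩
      apply Subtype.ext
      by_contra hne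
      exact hcon v hne hv
  rw [hfix] at hmod
  have hcard : Fintype.card (Fin 7 → K) = Fintype.card K ^ 7 := by simp
  rw [hcard] at hmod
  have hqpos : 0 < Fintype.card K := Fintype.card_pos
  have h6' : Fintype.card K ^ 6 ≡ 1 [MOD p] := by
    have h1 : 1 ≤ Fintype.card K ^ 6 := Nat.one_le_pow _ _ hqpos
    exact ((Nat.modEq_iff_dvd' h1).mpr h6).symm
  have h1 : Fintype.card K ≡ 1 [MOD p] := by
    have h7 : Fintype.card K ^ 6 * Fintype.card K ≡ 1 * Fintype.card K [MOD p] :=
      Nat.ModEq.mul_right _ h6'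
    rw [one_mul, ← pow_succ] at h7
    exact h7.symm.trans hmod
  apply hord1
  rw [pow_one]
  exact (Nat.modEq_iff_dvd' hqpos).mp h1.symm

/-- A non-trivial matrix of order `p` (prime to the characteristic) has an eigenvalue `≠ 1` over
the algebraic closure. -/
theorem ree2358_exists_eigen {K : Type*} [Field K] [Fintype K] {p : ℕ} (hp : p.Prime)
    (hpK : ¬ p ∣ Fintype.card K)
    (A : Matrix (Fin 7) (Fin 7) K) (hA : A ^ p = 1) (hA1 : A ≠ 1) :
    ∃ (lam : AlgebraicClosure K) (v₁ : Fin 7 → AlgebraicClosure K),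
      lam ^ p = 1 ∧ lam ≠ 1 ∧ v₁ ≠ 0 ∧
      (A.map (algebraMap K (AlgebraicClosure K))).mulVec v₁ = lam • v₁ := by
  classical
  have hALp : (A.map (algebraMap K (AlgebraicClosure K))) ^ p = 1 := by
    have h1 : A.map (algebraMap K (AlgebraicClosure K)) =
        (algebraMap K (AlgebraicClosure K)).mapMatrix A := rfl
    rw [h1, ← map_pow, hA, map_one]
  have hAL1 : A.map (algebraMap K (AlgebraicClosure K)) ≠ 1 := by
    intro h
    apply hA1
    have hinj : Function.Injective
        (fun M : Matrix (Fin 7) (Fin 7) K => M.map (algebraMap K (AlgebraicClosure K))) :=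
      Matrix.map_injective (algebraMap K (AlgebraicClosure K)).injective
    apply hinj
    show A.map (algebraMap K (AlgebraicClosure K)) =
      (1 : Matrix (Fin 7) (Fin 7) K).map (algebraMap K (AlgebraicClosure K))
    rw [h]
    have h1 : (1 : Matrix (Fin 7) (Fin 7) K).map (algebraMap K (AlgebraicClosure K)) =
        (algebraMap K (AlgebraicClosure K)).mapMatrix 1 := rfl
    rw [h1, map_one]
  set AL : Matrix (Fin 7) (Fin 7) (AlgebraicClosure K) :=
    A.map (algebraMap K (AlgebraicClosure K)) with hAL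
  let f : Module.End (AlgebraicClosure K) (Fin 7 → AlgebraicClosure K) :=
    Matrix.toLinAlgEquiv' AL
  have hfv : ∀ v, f v = AL.mulVec v := fun v => Matrix.toLinAlgEquiv'_apply AL v
  have hfp : f ^ p = 1 := by
    show (Matrix.toLinAlgEquiv' AL) ^ p = 1
    rw [← map_pow, hALp, map_one]
  have hf1 : f - 1 ≠ 0 := by
    intro h
    apply hAL1
    have h1 : f = 1 := sub_eq_zero.mp h
    apply Matrix.toLinAlgEquiv'.injective
    rw [map_one]
    exact h1
  have hWne : LinearMap.range (f - 1) ≠ ⊥ := by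
    rw [Ne, LinearMap.range_eq_bot]
    exact hf1
  have hWinv : ∀ x ∈ LinearMap.range (f - 1), f x ∈ LinearMap.range (f - 1) := by
    rintro x ⟨u, rfl⟩
    refine ⟨f u, ?_⟩
    simp [LinearMap.sub_apply]
  have : Nontrivial (LinearMap.range (f - 1)) := Submodule.nontrivial_iff_ne_bot.mpr hWne
  obtain ⟨c, hc⟩ := Module.End.exists_eigenvalue (f.restrict hWinv)
  obtain ⟨w, hw⟩ := hc.exists_hasEigenvector
  have hw0 : (w : Fin 7 → AlgebraicClosure K) ≠ 0 := fun h => hw.2 (Subtype.ext h)
  have hfw : f (w : Fin 7 → AlgebraicClosure K) = c • (w : Fin 7 → AlgebraicClosure K) := by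
    have h1 := congrArg Subtype.val hw.apply_eq_smul
    simpa using h1
  have hev : f.HasEigenvector c (w : Fin 7 → AlgebraicClosure K) :=
    ⟨Module.End.mem_eigenspace_iff.mpr hfw, hw0⟩
  have hcp : c ^ p = 1 := by
    have h1 := hev.pow_apply p
    rw [hfp] at h1
    have h2 : (c ^ p - 1) • (w : Fin 7 → AlgebraicClosure K) = 0 := by
      rw [sub_smul, one_smul, ← h1]
      simp
    rcases smul_eq_zero.mp h2 with h3 | h3
    · exact sub_eq_zero.mp h3
    · exact absurd h3 hw0
  have hsum : ∑ i ∈ Finset.range p, c ^ i = 0 := by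
    obtain ⟨u, hu⟩ := w.2
    have h1 : (∑ i ∈ Finset.range p, f ^ i) * (f - 1) = 0 := by
      rw [geom_sum_mul, hfp, sub_self]
    have h2 : (∑ i ∈ Finset.range p, f ^ i) (w : Fin 7 → AlgebraicClosure K) = 0 := by
      rw [← hu, ← Module.End.mul_apply, h1]
      rfl
    have h3 : (∑ i ∈ Finset.range p, f ^ i) (w : Fin 7 → AlgebraicClosure K) =
        (∑ i ∈ Finset.range p, c ^ i) • (w : Fin 7 → AlgebraicClosure K) := by
      rw [LinearMap.sum_apply, Finset.sum_smul]
      apply Finset.sum_congr rfl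
      intro i _
      exact hev.pow_apply i
    rw [h3] at h2
    rcases smul_eq_zero.mp h2 with h4 | h4
    · exact h4
    · exact absurd h4 hw0
  have hc1 : c ≠ 1 := by
    intro h
    rw [h] at hsum
    have hpL : ((p : ℕ) : AlgebraicClosure K) = 0 := by simpa using hsum
    have hpK0 : ((p : ℕ) : K) = 0 := by
      apply (algebraMap K (AlgebraicClosure K)).injective
      rw [map_natCast, map_zero]
      exact hpL
    obtain ⟨n, hℓ, hq⟩ := FiniteField.card K (ringChar K)
    have hdvd : ringChar K ∣ p := (CharP.cast_eq_zero_iff K (ringChar K) p).mp hpK0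
    have heq : ringChar K = p := (Nat.prime_dvd_prime_iff_eq hℓ hp).mp hdvd
    apply hpK
    rw [hq, heq]
    exact dvd_pow_self p n.ne_zero
  exact ⟨c, w, hcp, hc1, hw0, by rw [← hfv]; exact hfw⟩

/-- PIECE LA0 of CALL S2358. -/
theorem exists_frobenius_eigenbasis {K : Type*} [Field K] [Fintype K] {p : ℕ} (hp : p.Prime)
    (hpK : ¬ p ∣ Fintype.card K)
    (hord : ∀ k : ℕ, 0 < k → k < 6 → ¬ p ∣ Fintype.card K ^ k - 1)
    (h6 : p ∣ Fintype.card K ^ 6 - 1)
    (A : Matrix (Fin 7) (Fin 7) K) (hA : A ^ p = 1) (hA1 : A ≠ 1) :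
    ∃ (lam : AlgebraicClosure K) (v₀ : Fin 7 → K) (v₁ : Fin 7 → AlgebraicClosure K),
      lam ^ p = 1 ∧ lam ≠ 1 ∧ A.mulVec v₀ = v₀ ∧
      (A.map (algebraMap K (AlgebraicClosure K))).mulVec v₁ = lam • v₁ ∧
      LinearIndependent (AlgebraicClosure K)
        (fun j : Fin 7 => (Fin.cases (fun i => algebraMap K (AlgebraicClosure K) (v₀ i))
          (fun (k : Fin 6) (i : Fin 7) => v₁ i ^ (Fintype.card K ^ (k : ℕ))) j :
            Fin 7 → AlgebraicClosure K)) := by
  classical
  have : Fact p.Prime := ⟨hp⟩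
  obtain ⟨v₀, hv₀, hAv₀⟩ := ree2358_exists_fixed hp (hord 1 one_pos (by norm_num)) h6 A hA
  obtain ⟨lam, v₁, hlamp, hlam1, hv₁, hAv₁⟩ := ree2358_exists_eigen hp hpK A hA hA1
  refine ⟨lam, v₀, v₁, hlamp, hlam1, hAv₀, hAv₁, ?_⟩
  have hqpos : 0 < Fintype.card K := Fintype.card_pos
  obtain ⟨n, hℓ, hq⟩ := FiniteField.card K (ringChar K)
  have : CharP (AlgebraicClosure K) (ringChar K) :=
    charP_of_injective_algebraMap (algebraMap K (AlgebraicClosure K)).injective _
  have : ExpChar (AlgebraicClosure K) (ringChar K) := ExpChar.prime hℓ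
  set AL : Matrix (Fin 7) (Fin 7) (AlgebraicClosure K) :=
    A.map (algebraMap K (AlgebraicClosure K)) with hAL
  have hσ : ∀ (k : ℕ) (v : Fin 7 → AlgebraicClosure K) (μ : AlgebraicClosure K),
      AL.mulVec v = μ • v →
      AL.mulVec (fun i => v i ^ Fintype.card K ^ k) =
        μ ^ Fintype.card K ^ k • (fun i => v i ^ Fintype.card K ^ k) := by
    intro k v μ hv
    let φ : AlgebraicClosure K →+* AlgebraicClosure K :=
      iterateFrobenius (AlgebraicClosure K) (ringChar K) ((n : ℕ) * k)
    have hφ : ∀ x, φ x = x ^ Fintype.card K ^ k := by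
      intro x
      show iterateFrobenius (AlgebraicClosure K) (ringChar K) ((n : ℕ) * k) x = _
      rw [iterateFrobenius_def, pow_mul, ← hq]
    have hAφ : AL.map φ = AL := by
      ext i j
      rw [Matrix.map_apply, hφ, hAL, Matrix.map_apply, ← map_pow, FiniteField.pow_card_pow]
    funext i
    have h1 := RingHom.map_mulVec φ AL v i
    rw [hAφ, hv] at h1
    have h2 : (φ ∘ v) = fun i => v i ^ Fintype.card K ^ k := by
      funext j
      exact hφ (v j)
    rw [h2] at h1
    rw [← h1, Pi.smul_apply, Pi.smul_apply, smul_eq_mul, smul_eq_mul, map_mul, hφ, hφ]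
  have hlamord : orderOf lam = p := orderOf_eq_prime hlamp hlam1
  have hlam0 : lam ≠ 0 := by
    intro h
    rw [h, zero_pow hp.ne_zero] at hlamp
    exact zero_ne_one hlamp
  have hqk : ∀ k : ℕ, lam ^ Fintype.card K ^ k ≠ 1 := by
    intro k h
    have h1 : p ∣ Fintype.card K ^ k := by
      rw [← hlamord]
      exact orderOf_dvd_of_pow_eq_one h
    exact hpK (hp.dvd_of_dvd_pow h1)
  have hqij : ∀ i j : ℕ, i < j → j < 6 →
      lam ^ Fintype.card K ^ i ≠ lam ^ Fintype.card K ^ j := by
    intro i j hij hj h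
    have hle : Fintype.card K ^ i ≤ Fintype.card K ^ j := Nat.pow_le_pow_right hqpos hij.le
    have h1 : lam ^ (Fintype.card K ^ j - Fintype.card K ^ i) = 1 := by
      have h5 : lam ^ Fintype.card K ^ i * lam ^ (Fintype.card K ^ j - Fintype.card K ^ i) =
          lam ^ Fintype.card K ^ i * 1 := by
        rw [← pow_add, Nat.add_sub_cancel' hle, mul_one, h]
      exact mul_left_cancel₀ (pow_ne_zero _ hlam0) h5
    have h2 : p ∣ Fintype.card K ^ j - Fintype.card K ^ i := by
      rw [← hlamord]
      exact orderOf_dvd_of_pow_eq_one h1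
    have h3 : Fintype.card K ^ j - Fintype.card K ^ i =
        Fintype.card K ^ i * (Fintype.card K ^ (j - i) - 1) := by
      rw [Nat.mul_sub, mul_one, ← pow_add, Nat.add_sub_cancel' hij.le]
    rw [h3] at h2
    rcases hp.dvd_mul.mp h2 with h4 | h4
    · exact hpK (hp.dvd_of_dvd_pow h4)
    · exact hord (j - i) (Nat.sub_pos_of_lt hij) (by omega) h4
  let μ : Fin 7 → AlgebraicClosure K :=
    Fin.cases 1 (fun k : Fin 6 => lam ^ Fintype.card K ^ (k : ℕ))
  have hμinj : Function.Injective μ := by
    intro a b hab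
    induction a using Fin.cases with
    | zero =>
      induction b using Fin.cases with
      | zero => rfl
      | succ b =>
        have h1 : (1 : AlgebraicClosure K) = lam ^ Fintype.card K ^ (b : ℕ) := hab
        exact absurd h1.symm (hqk b)
    | succ a =>
      induction b using Fin.cases with
      | zero =>
        have h1 : lam ^ Fintype.card K ^ (a : ℕ) = (1 : AlgebraicClosure K) := hab
        exact absurd h1 (hqk a)
      | succ b =>
        have h1 : lam ^ Fintype.card K ^ (a : ℕ) = lam ^ Fintype.card K ^ (b : ℕ) := hab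
        congr 1
        apply Fin.ext
        by_contra hne
        rcases Nat.lt_or_gt_of_ne hne with h | h
        · exact hqij a b h b.2 h1
        · exact hqij b a h a.2 h1.symm
  let f : Module.End (AlgebraicClosure K) (Fin 7 → AlgebraicClosure K) :=
    Matrix.toLinAlgEquiv' AL
  apply Module.End.eigenvectors_linearIndependent' f μ hμinj
  intro j
  refine Fin.cases ?_ ?_ j
  · refine ⟨Module.End.mem_eigenspace_iff.mpr ?_, ?_⟩
    · show f (fun i => algebraMap K (AlgebraicClosure K) (v₀ i)) =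
        (1 : AlgebraicClosure K) • (fun i => algebraMap K (AlgebraicClosure K) (v₀ i))
      rw [one_smul, Matrix.toLinAlgEquiv'_apply]
      funext i
      have h1 := RingHom.map_mulVec (algebraMap K (AlgebraicClosure K)) A v₀ i
      rw [hAv₀] at h1
      exact h1.symm
    · intro h
      apply hv₀
      funext i
      have h1 := congrFun h i
      apply (algebraMap K (AlgebraicClosure K)).injective
      rw [Pi.zero_apply, map_zero]
      exact h1
  · intro k
    refine ⟨Module.End.mem_eigenspace_iff.mpr ?_, ?_⟩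
    · show f (fun i => v₁ i ^ Fintype.card K ^ (k : ℕ)) =
        (lam ^ Fintype.card K ^ (k : ℕ)) • (fun i => v₁ i ^ Fintype.card K ^ (k : ℕ))
      rw [Matrix.toLinAlgEquiv'_apply]
      exact hσ k v₁ lam hAv₁
    · intro h
      apply hv₁
      funext i
      have h1 := congrFun h i
      exact pow_eq_zero_iff (pow_pos hqpos _).ne' |>.mp h1

end Cfsg.Agent.Helper80
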