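import Mathlib
import Cfsg.Agent.Helper25.CN

/-!
# CALL S1376 (helper1), piece AB: `c9_abel`
-/

set_option autoImplicit false

namespace Cfsg.Agent.Helper80

open Cfsg Subgroup

universe u

variable {G : Type u} [Group G] [Finite G]

/-- AB (pure).  For `a, b ∈ E`: `c := a b a⁻¹ b⁻¹ ∈ E ⊓ M'`; for `y ∈ H ≤ M'` the orders of `c` and
`y` are coprime (`hcop`), so `c y = y c` (nilpotent `M'`); `H ≠ ⊥` and `hreg` give `c = 1`. -/
theorem c9_abel {M E H : Subgroup G} (hEM : E ≤ M) (hHM' : H ≤ ⁅M, M⁆)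
    (hder : Group.IsNilpotent ↥⁅M, M⁆) (hH1 : H ≠ ⊥)
    (hcop : (Nat.card E).Coprime (Nat.card H))
    (hreg : ∀ e ∈ E, e ≠ 1 → ∀ y ∈ H, e * y = y * e → y = 1) :
    ∀ a ∈ E, ∀ b ∈ E, a * b = b * a := by
  intro a ha b hb
  obtain ⟨y, hy1⟩ := (Subgroup.ne_bot_iff_exists_ne_one).mp hH1
  have hyH' : (y : G) ∈ H := y.2
  have hy1' : (y : G) ≠ 1 := fun h => hy1 (Subtype.ext h)
  by_contra hab
  have hcE : a * b * a⁻¹ * b⁻¹ ∈ E :=
    E.mul_mem (E.mul_mem (E.mul_mem ha hb) (E.inv_mem ha)) (E.inv_mem hb)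
  have hcM' : a * b * a⁻¹ * b⁻¹ ∈ ⁅M, M⁆ := by
    have := Subgroup.commutator_mem_commutator (hEM ha) (hEM hb)
    rwa [commutatorElement_def] at this
  have hc1 : a * b * a⁻¹ * b⁻¹ ≠ 1 := by
    intro h
    apply hab
    have h2 : a * b * a⁻¹ = b := by
      rwa [mul_inv_eq_one] at h
    rw [mul_inv_eq_iff_eq_mul] at h2
    exact h2
  have hoc : orderOf (a * b * a⁻¹ * b⁻¹) ∣ Nat.card E := by
    have := orderOf_dvd_natCard (⟨a * b * a⁻¹ * b⁻¹, hcE⟩ : E)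
    rwa [Subgroup.orderOf_mk] at this
  have hoy : orderOf (y : G) ∣ Nat.card H := by
    have := orderOf_dvd_natCard (y : H)
    rwa [← Subgroup.orderOf_coe] at this
  have hcop' : (orderOf (a * b * a⁻¹ * b⁻¹)).Coprime (orderOf (y : G)) :=
    Nat.Coprime.coprime_dvd_left hoc (Nat.Coprime.coprime_dvd_right hoy hcop)
  have hcomm := Cfsg.Agent.Helper25.commute_of_coprime_of_mem_nilpotent ⁅M, M⁆ hder hcM'
    (hHM' hyH') hcop'
  exact hy1' (hreg _ hcE hc1 (y : G) hyH' hcomm.eq)
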