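import Mathlib
import Cfsg.Agent.Helper25.CN

/-!
# CALL S1376 (helper1), piece G3: `c9_cent`
-/

set_option autoImplicit false

namespace Cfsg.Agent.Helper80

open Cfsg Subgroup

universe u

variable {G : Type u} [Group G] [Finite G]

/-- In a finite nilpotent group, every `r`-element lies in every Sylow `r`-subgroup. -/
theorem c9_mem_sylow_of_nilpotent {X : Type*} [Group X] [Finite X] (hX : Group.IsNilpotent X)
    {r : ℕ} [Fact r.Prime] (P : Sylow r X) (x : X) (hx : ∃ k, orderOf x = r ^ k) : x ∈ P := by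
  have hall : ∀ (p : ℕ) (_hp : Fact p.Prime) (P : Sylow p X), (↑P : Subgroup X).Normal :=
    ((Group.isNilpotent_of_finite_tfae (G := X)).out 0 3).mp hX
  have hPn : (P : Subgroup X).Normal := hall r inferInstance P
  obtain ⟨k, hk⟩ := hx
  have hz : IsPGroup r (Subgroup.zpowers x) := by
    apply IsPGroup.of_card (n := k)
    rw [Nat.card_zpowers, hk]
  obtain ⟨Q, hQ⟩ := hz.exists_le_sylow
  have hu := Sylow.unique_of_normal P hPn
  have hQP : Q = P := (hu.uniq Q).trans (hu.uniq P).symm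
  rw [← hQP]
  exact hQ (Subgroup.mem_zpowers x)

/-- G3 (pure).  `D` nilpotent, `A ≤ D` an `r`-group, all `r`-subgroups of `G` abelian: `D`
centralizes `A` (the Sylow `r`-subgroup of `D` is normal and abelian and contains `A`; `r'`-elements
of `D` commute with `r`-elements). -/
theorem c9_cent {D A : Subgroup G} {r : ℕ} (hr : r.Prime) (hD : Group.IsNilpotent ↥D)
    (hAD : A ≤ D) (hA : IsPGroup r A)
    (hab : ∀ P : Subgroup G, IsPGroup r P → ∀ a ∈ P, ∀ b ∈ P, a * b = b * a) :
    D ≤ centralizer (A : Set G) := by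
  haveI : Fact r.Prime := ⟨hr⟩
  intro d hd
  rw [Subgroup.mem_centralizer_iff]
  intro a ha
  have haA : a ∈ A := ha
  -- the order of `a` is a power of `r`
  have hoa : ∃ j, orderOf (⟨a, hAD haA⟩ : D) = r ^ j := by
    obtain ⟨k, hk⟩ := hA ⟨a, haA⟩
    have hk' : a ^ r ^ k = 1 := by
      have := congrArg Subtype.val hk
      simpa using this
    have hdvd : orderOf a ∣ r ^ k := orderOf_dvd_of_pow_eq_one hk'
    obtain ⟨j, -, hj⟩ := (Nat.dvd_prime_pow hr).mp hdvd
    exact ⟨j, by rw [Subgroup.orderOf_mk, hj]⟩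
  obtain ⟨x, y, hxy, -, -, hxo, hyo⟩ :=
    Cfsg.Agent.Helper25.exists_primary_decomp r hr (⟨d, hd⟩ : D) (orderOf_pos _).ne'
  let P : Sylow r ↥D := default
  have hxP : x ∈ P := c9_mem_sylow_of_nilpotent hD P x hxo
  have haP : (⟨a, hAD haA⟩ : D) ∈ P := c9_mem_sylow_of_nilpotent hD P _ hoa
  have hPG : IsPGroup r ((P : Subgroup ↥D).map D.subtype) := P.isPGroup'.map _
  have h1 : a * (x : G) = (x : G) * a :=
    hab _ hPG a ⟨⟨a, hAD haA⟩, haP, rfl⟩ (x : G) ⟨x, hxP, rfl⟩
  have h2 : Commute (⟨a, hAD haA⟩ : D) y := by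
    haveI := hD
    apply Cfsg.Agent.Helper25.commute_of_coprime_orderOf_of_isNilpotent
    obtain ⟨j, hj⟩ := hoa
    rw [hj]
    exact Nat.Coprime.pow_left j hyo.symm
  have h2' : a * (y : G) = (y : G) * a := congrArg Subtype.val h2.eq
  have hd' : d = (x : G) * (y : G) := congrArg Subtype.val hxy
  rw [hd', ← mul_assoc, h1, mul_assoc, h2', mul_assoc]
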