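import Mathlib

/-!
# PIECE ODD of CALL S4278 (helper18): an element of odd order inverted by `m` (helper80)
-/

set_option autoImplicit false

namespace Cfsg.Agent.Helper80.G2O

/-- PIECE ODD (pure group theory): an element of odd order inverted by `m`. -/
theorem g2o_odd_trick {G : Type*} [Group G] (u m : G) (k : ℕ) (hk : Odd k) (huk : u ^ k = 1)
    (hm : m * u * m⁻¹ = u⁻¹) : ∃ v ∈ Subgroup.zpowers u, v * m * v⁻¹ = u * m := by
  obtain ⟨j, rfl⟩ := hk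
  refine ⟨u ^ (j + 1), Subgroup.pow_mem _ (Subgroup.mem_zpowers u) _, ?_⟩
  have h1 : m * u ^ (j + 1) * m⁻¹ = (u ^ (j + 1))⁻¹ := by
    rw [← conj_pow, hm, inv_pow]
  have h2 : m * (u ^ (j + 1))⁻¹ = u ^ (j + 1) * m := by
    have : m * (u ^ (j + 1))⁻¹ * m⁻¹ = u ^ (j + 1) := by
      have e : m * (u ^ (j + 1))⁻¹ * m⁻¹ = (m * u ^ (j + 1) * m⁻¹)⁻¹ := by group
      rw [e, h1, inv_inv]
    calc m * (u ^ (j + 1))⁻¹ = (m * (u ^ (j + 1))⁻¹ * m⁻¹) * m := by group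
      _ = u ^ (j + 1) * m := by rw [this]
  have h3 : u ^ (j + 1) * u ^ (j + 1) = u := by
    rw [← pow_add]
    have : j + 1 + (j + 1) = (2 * j + 1) + 1 := by ring
    rw [this, pow_succ, huk, one_mul]
  calc u ^ (j + 1) * m * (u ^ (j + 1))⁻¹ = u ^ (j + 1) * (m * (u ^ (j + 1))⁻¹) := by group
    _ = u ^ (j + 1) * (u ^ (j + 1) * m) := by rw [h2]
    _ = u * m := by rw [← mul_assoc, h3]

end Cfsg.Agent.Helper80.G2O
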