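import Mathlib
import Cfsg.Prelude.Def_Characters
import Cfsg.Agent.Helper3.Induced
import Cfsg.Agent.Helper79.Linear

/-!
# Extension of linear characters from subgroups of `p'`-index (helper80)

* `exists_linear_extension`: if `p` divides the degree of every non-linear irreducible character of
  `G` and `H ≤ G` has index prime to `p`, every homomorphism `H →* ℂˣ` extends to `G`.
* `mem_commutator_of_forall_hom`: an element of a finite group killed by all homomorphisms to `ℂˣ`
  lies in the commutator subgroup.
-/

set_option autoImplicit false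

namespace Cfsg.Agent.Helper80

open Cfsg

universe u

/-- If `p` divides the degree of every non-linear irreducible character of `G`, and `H` is a
subgroup of index prime to `p`, then every linear character of `H` extends to `G`. -/
theorem exists_linear_extension {G : Type u} [Group G] [Finite G] (p : ℕ) (_hp : p.Prime)
    (hdeg : ∀ χ : IrrCharacter G, charDegree (χ : G → ℂ) ≠ 1 → p ∣ charDegree (χ : G → ℂ))
    (H : Subgroup G) (hH : ¬ p ∣ H.index) (μ : H →* ℂˣ) :
    ∃ f : G →* ℂˣ, ∀ h : H, f (h : G) = μ h := by
  classical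
  have : Fintype G := Fintype.ofFinite G
  have : Fintype H := Fintype.ofFinite H
  have : Fintype (IrrCharacter G) := Fintype.ofFinite _
  set θ : H → ℂ := fun h => ((μ h : ℂˣ) : ℂ) with hθdef
  have hθ : IsCharacter H θ :=
    Helper79.isCharacter_of_irr (Helper79.isIrrCharacter_of_hom μ)
  have hψc : IsClassFunction G (indFun H θ) := Helper3.indFun_isClassFunction H θ
  have hexp := Helper3.classFunction_eq_sum (indFun H θ) hψc
  -- the coefficients are natural numbers
  have hnat : ∀ χ : IrrCharacter G, ∃ n : ℕ, classInner (indFun H θ) (χ : G → ℂ) = (n : ℂ) := by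
    intro χ
    have hχc : IsClassFunction G (χ : G → ℂ) :=
      Helper79.isCharacter_isClassFunction (Helper79.irr_isCharacter χ)
    rw [Helper3.frobenius_reciprocity H θ _ hχc]
    exact Helper3.classInner_isCharacter_nat hθ
      (Helper79.isCharacter_restrict (Helper79.irr_isCharacter χ) H)
  choose n hn using hnat
  have h1 : indFun H θ 1 = (H.index : ℂ) := by
    rw [Helper79.indFun_apply_one]
    simp [hθdef]
  have hsum : (H.index : ℂ) = ∑ χ : IrrCharacter G, (n χ : ℂ) * (charDegree (χ : G → ℂ) : ℂ) := by
    have h2 := congrFun hexp 1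
    rw [h1, Finset.sum_apply] at h2
    rw [h2]
    refine Finset.sum_congr rfl ?_
    intro χ _
    rw [Pi.smul_apply, smul_eq_mul, hn χ,
      Helper79.isCharacter_one_eq_charDegree (Helper79.irr_isCharacter χ)]
  have hsumN : H.index = ∑ χ : IrrCharacter G, n χ * charDegree (χ : G → ℂ) := by
    exact_mod_cast hsum
  -- some constituent has degree prime to `p`
  have hex : ∃ χ : IrrCharacter G, n χ ≠ 0 ∧ ¬ p ∣ charDegree (χ : G → ℂ) := by
    by_contra hcon
    push Not at hcon
    apply hH
    rw [hsumN]
    apply Finset.dvd_sum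
    intro χ _
    by_cases h0 : n χ = 0
    · rw [h0, zero_mul]; exact dvd_zero p
    · exact Dvd.dvd.mul_left (hcon χ h0) _
  obtain ⟨χ, hχ0, hχp⟩ := hex
  have hχ1 : charDegree (χ : G → ℂ) = 1 := by
    by_contra h
    exact hχp (hdeg χ h)
  have hχone : (χ : G → ℂ) 1 = 1 := by
    rw [Helper79.isCharacter_one_eq_charDegree (Helper79.irr_isCharacter χ), hχ1]; simp
  obtain ⟨f, hf⟩ := Helper79.isCharacter_linear (Helper79.irr_isCharacter χ) hχone
  refine ⟨f, ?_⟩
  -- the inner product of `μ` and `f|_H` is nonzero, so they agree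
  have hχc : IsClassFunction G (χ : G → ℂ) :=
    Helper79.isCharacter_isClassFunction (Helper79.irr_isCharacter χ)
  have hne : classInner θ (fun h : H => (χ : G → ℂ) h) ≠ 0 := by
    rw [← Helper3.frobenius_reciprocity H θ _ hχc, hn χ]
    exact_mod_cast hχ0
  let ν : H →* ℂ := (Units.coeHom ℂ).comp (μ * ((f.comp H.subtype)⁻¹))
  have hν : ∀ h : H, ν h = θ h * (starRingEnd ℂ) ((χ : G → ℂ) h) := by
    intro h
    rw [hf, Helper79.conj_hom_apply]
    simp [ν, hθdef]
  have hsum0 : ∑ h : H, ν h ≠ 0 := by
    intro h0
    apply hne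
    unfold classInner
    rw [← Finset.sum_congr rfl (fun h _ => hν h), h0, mul_zero]
  have hν1 : ν = 1 := by
    by_contra h
    exact hsum0 (sum_hom_units_eq_zero ν h)
  intro h
  have h3 : ν h = 1 := by rw [hν1]; rfl
  have h4 : ((μ h * (f (h : G))⁻¹ : ℂˣ) : ℂ) = 1 := by
    simpa [ν] using h3
  have h5 : μ h * (f (h : G))⁻¹ = 1 := Units.ext (by rw [h4]; rfl)
  exact (mul_inv_eq_one.mp h5).symm

/-- An element of a finite group that is killed by every homomorphism to `ℂˣ` lies in the
commutator subgroup. -/
theorem mem_commutator_of_forall_hom {P : Type u} [Group P] [Finite P] (z : P)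
    (h : ∀ μ : P →* ℂˣ, μ z = 1) : z ∈ commutator P := by
  by_contra hz
  have ha : (Abelianization.of z : Abelianization P) ≠ 1 := by
    intro h1
    apply hz
    have : (QuotientGroup.mk z : P ⧸ commutator P) = 1 := h1
    exact (QuotientGroup.eq_one_iff z).mp this
  have : Finite (Abelianization P) := by
    unfold Abelianization; infer_instance
  obtain ⟨φ, hφ⟩ := CommGroup.exists_apply_ne_one_of_hasEnoughRootsOfUnity
    (Abelianization P) ℂ ha
  exact hφ (h (φ.comp Abelianization.of))

end Cfsg.Agent.Helper80
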