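import Cfsg.Prelude.Def_Transfer
import Cfsg.Prelude.Def_Solvable
import Cfsg.Agent.Helper63.N15Defs

/-! Piece m4b of CALL S4415 (helper63): `R` contains `-1` and the diagonal element `(-,-,+,+)`. -/

set_option autoImplicit false

namespace Cfsg.Agent.Helper80.N15

open Cfsg.Agent.Helper63.N15

variable {G : Type*} [Group G] [Finite G] {V : Type*} [AddCommGroup V] [Module (ZMod 3) V]
  [Finite V] {ρ : Representation (ZMod 3) G V} {R : Subgroup G} {b q₁ q₂ q₃ : G} {v₁ v₂ v₃ : V}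

theorem m4b_ne_neg (v : V) (hv : v ≠ 0) : v ≠ -v := by
  intro h
  apply hv
  have h2 : (2 : ZMod 3) • v = 0 := by
    rw [two_smul]
    nth_rewrite 2 [h]
    exact add_neg_cancel v
  have h3 : (2 : ZMod 3) • (2 : ZMod 3) • v = 0 := by rw [h2, smul_zero]
  rw [smul_smul] at h3
  have e : (2 : ZMod 3) * 2 = 1 := by decide
  rw [e, one_smul] at h3
  exact h3

theorem m4b_rho_mul (ρ : Representation (ZMod 3) G V) (g h : G) (v : V) :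
    ρ (g * h) v = ρ g (ρ h v) := by
  rw [map_mul]
  rfl

theorem m4b_rho_one (ρ : Representation (ZMod 3) G V) (v : V) : ρ 1 v = v := by
  rw [map_one]
  rfl

theorem m4b_rho_inv (ρ : Representation (ZMod 3) G V) (g : G) (v w : V) (h : ρ g v = w) :
    ρ g⁻¹ w = v := by
  rw [← h, ← m4b_rho_mul, inv_mul_cancel, m4b_rho_one]

/-- an element acting as `±1` is central -/
theorem m4b_isZ_comm (c : Cfg ρ R b q₁ q₂ q₃ v₁ v₂ v₃) (ζ : G) (hζ : IsZ ρ ζ) (g : G) :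
    ζ * g = g * ζ := by
  rcases hζ with rfl | hζ
  · rw [one_mul, mul_one]
  · have h1 : ζ * g * ζ⁻¹ * g⁻¹ = 1 := by
      apply c.faith
      intro v
      have hinv : ∀ x : V, ρ ζ⁻¹ x = -x := by
        intro x
        apply m4b_rho_inv
        rw [hζ, neg_neg]
      rw [m4b_rho_mul, m4b_rho_mul, m4b_rho_mul, hinv, hζ, map_neg, neg_neg, ← m4b_rho_mul,
        mul_inv_cancel, m4b_rho_one]
    have h2 : ζ * g * ζ⁻¹ = g := mul_inv_eq_one.mp h1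
    calc ζ * g = (ζ * g * ζ⁻¹) * ζ := by group
      _ = g * ζ := by rw [h2]

theorem m4b_q1_not_isZ (c : Cfg ρ R b q₁ q₂ q₃ v₁ v₂ v₃) : ¬ IsZ ρ q₁ := by
  rintro (h | h)
  · have h1 := c.s12
    rw [h, m4b_rho_one] at h1
    exact m4b_ne_neg v₂ c.rot.v1 h1
  · exact m4b_ne_neg v₁ c.v1 ((c.s11).symm.trans (h v₁))

/-- `g` maps the line of `e` to the line of `e'` -/
def M4Ln (ρ : Representation (ZMod 3) G V) (g : G) (e e' : V) : Prop :=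
  ρ g e = e' ∨ ρ g e = -e'

theorem m4b_ln_mul {g h : G} {e e' e'' : V} (h1 : M4Ln ρ h e e') (h2 : M4Ln ρ g e' e'') :
    M4Ln ρ (g * h) e e'' := by
  unfold M4Ln at *
  rw [m4b_rho_mul]
  rcases h1 with h1 | h1 <;> rcases h2 with h2 | h2
  · left; rw [h1, h2]
  · right; rw [h1, h2]
  · right; rw [h1, map_neg, h2]
  · left; rw [h1, map_neg, h2, neg_neg]

theorem m4b_ln_inv {g : G} {e e' : V} (h1 : M4Ln ρ g e e') : M4Ln ρ g⁻¹ e' e := by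
  unfold M4Ln at *
  rcases h1 with h1 | h1
  · left
    exact m4b_rho_inv ρ g e e' h1
  · right
    have h2 : ρ g (-e) = e' := by rw [map_neg, h1, neg_neg]
    exact m4b_rho_inv ρ g (-e) e' h2

/-- `r ∈ R` is diagonal on the frame with the given signs -/
def M4Dg (ρ : Representation (ZMod 3) G V) (R : Subgroup G) (e₁ e₂ e₃ e₄ : V) (r : G)
    (ε₁ ε₂ ε₃ ε₄ : ZMod 3) : Prop :=
  r ∈ R ∧ ρ r e₁ = ε₁ • e₁ ∧ ρ r e₂ = ε₂ • e₂ ∧ ρ r e₃ = ε₃ • e₃ ∧ ρ r e₄ = ε₄ • e₄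

theorem m4b_dg_congr {e₁ e₂ e₃ e₄ : V} {r : G} {ε₁ ε₂ ε₃ ε₄ δ₁ δ₂ δ₃ δ₄ : ZMod 3}
    (h : M4Dg ρ R e₁ e₂ e₃ e₄ r ε₁ ε₂ ε₃ ε₄) (h1 : ε₁ = δ₁) (h2 : ε₂ = δ₂) (h3 : ε₃ = δ₃)
    (h4 : ε₄ = δ₄) : M4Dg ρ R e₁ e₂ e₃ e₄ r δ₁ δ₂ δ₃ δ₄ := by
  subst h1 h2 h3 h4
  exact h

theorem m4b_dg_mul {e₁ e₂ e₃ e₄ : V} {r r' : G} {ε₁ ε₂ ε₃ ε₄ δ₁ δ₂ δ₃ δ₄ : ZMod 3}
    (h : M4Dg ρ R e₁ e₂ e₃ e₄ r ε₁ ε₂ ε₃ ε₄) (h' : M4Dg ρ R e₁ e₂ e₃ e₄ r' δ₁ δ₂ δ₃ δ₄) :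
    M4Dg ρ R e₁ e₂ e₃ e₄ (r * r') (ε₁ * δ₁) (ε₂ * δ₂) (ε₃ * δ₃) (ε₄ * δ₄) := by
  obtain ⟨hr, a1, a2, a3, a4⟩ := h
  obtain ⟨hr', b1, b2, b3, b4⟩ := h'
  refine ⟨R.mul_mem hr hr', ?_, ?_, ?_, ?_⟩
  · rw [m4b_rho_mul, b1, map_smul, a1, smul_smul, mul_comm]
  · rw [m4b_rho_mul, b2, map_smul, a2, smul_smul, mul_comm]
  · rw [m4b_rho_mul, b3, map_smul, a3, smul_smul, mul_comm]
  · rw [m4b_rho_mul, b4, map_smul, a4, smul_smul, mul_comm]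

theorem m4b_dg_conj (c : Cfg ρ R b q₁ q₂ q₃ v₁ v₂ v₃) {e₁ e₂ e₃ e₄ : V}
    (hM : Mono4 ρ b e₁ e₂ e₃ e₄) {r : G} {ε₁ ε₂ ε₃ ε₄ : ZMod 3}
    (h : M4Dg ρ R e₁ e₂ e₃ e₄ r ε₁ ε₂ ε₃ ε₄) :
    M4Dg ρ R e₁ e₂ e₃ e₄ (b * r * b⁻¹) ε₃ ε₁ ε₂ ε₄ := by
  obtain ⟨hr, a1, a2, a3, a4⟩ := h
  obtain ⟨-, -, -, -, hb1, hb2, hb3, hb4⟩ := hM
  have i1 : ρ b⁻¹ e₁ = e₃ := m4b_rho_inv ρ b e₃ e₁ hb3
  have i2 : ρ b⁻¹ e₂ = e₁ := m4b_rho_inv ρ b e₁ e₂ hb1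
  have i3 : ρ b⁻¹ e₃ = e₂ := m4b_rho_inv ρ b e₂ e₃ hb2
  have i4 : ρ b⁻¹ e₄ = e₄ := m4b_rho_inv ρ b e₄ e₄ hb4
  refine ⟨c.Rn.conj_mem r hr b, ?_, ?_, ?_, ?_⟩
  · rw [m4b_rho_mul, m4b_rho_mul, i1, a3, map_smul, hb3]
  · rw [m4b_rho_mul, m4b_rho_mul, i2, a1, map_smul, hb1]
  · rw [m4b_rho_mul, m4b_rho_mul, i3, a2, map_smul, hb2]
  · rw [m4b_rho_mul, m4b_rho_mul, i4, a4, map_smul, hb4]

/-- a diagonal element with constant sign acts as that scalar -/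
theorem m4b_dg_scalar {e₁ e₂ e₃ e₄ : V} (hM : Mono4 ρ b e₁ e₂ e₃ e₄) {r : G} {ε : ZMod 3}
    (h : M4Dg ρ R e₁ e₂ e₃ e₄ r ε ε ε ε) (v : V) : ρ r v = ε • v := by
  obtain ⟨hr, a1, a2, a3, a4⟩ := h
  obtain ⟨c₁, c₂, c₃, c₄, hv⟩ := hM.1 v
  rw [hv]
  simp only [map_add, map_smul, a1, a2, a3, a4, smul_add]
  rw [smul_comm c₁, smul_comm c₂, smul_comm c₃, smul_comm c₄]

/-- signs of a diagonal element -/
theorem m4b_sign {r : G} {e : V} (h : ρ r e = e ∨ ρ r e = -e) :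
    ∃ ε : ZMod 3, (ε = 1 ∨ ε = -1) ∧ ρ r e = ε • e := by
  rcases h with h | h
  · exact ⟨1, Or.inl rfl, by rw [h, one_smul]⟩
  · exact ⟨-1, Or.inr rfl, by rw [h, neg_smul, one_smul]⟩

theorem m4b_comm_of (x ζ y : G) (hxy : x * y = y * x) (hζ : ζ * y = y * ζ) :
    (x * ζ) * y = y * (x * ζ) := by
  calc x * ζ * y = x * (ζ * y) := by rw [mul_assoc]
    _ = x * (y * ζ) := by rw [hζ]
    _ = (x * y) * ζ := by rw [mul_assoc]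
    _ = (y * x) * ζ := by rw [hxy]
    _ = y * (x * ζ) := by rw [mul_assoc]

/-- the frame of the first three lines -/
def m4bF (e₁ e₂ e₃ : V) : Fin 3 → V := ![e₁, e₂, e₃]

/-- the common fixed space of `q₁, q₂` -/
def m4bC (ρ : Representation (ZMod 3) G V) (q₁ q₂ : G) : Submodule (ZMod 3) V where
  carrier := {u | ρ q₁ u = u ∧ ρ q₂ u = u}
  add_mem' := by
    intro x y hx hy
    exact ⟨by rw [map_add, hx.1, hy.1], by rw [map_add, hx.2, hy.2]⟩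
  zero_mem' := ⟨map_zero _, map_zero _⟩
  smul_mem' := by
    intro k x hx
    exact ⟨by rw [map_smul, hx.1], by rw [map_smul, hx.2]⟩

theorem m4b_card (e₁ e₂ e₃ e₄ v₁ v₂ v₃ : V)
    (hind : ∀ c₁ c₂ c₃ c₄ : ZMod 3, c₁ • e₁ + c₂ • e₂ + c₃ • e₃ + c₄ • e₄ = 0 →
      c₁ = 0 ∧ c₂ = 0 ∧ c₃ = 0 ∧ c₄ = 0)
    (hspan : ∀ v : V, ∃ c₁ c₂ c₃ : ZMod 3, v = c₁ • v₁ + c₂ • v₂ + c₃ • v₃) : False := by
  have h1 : Nat.card V ≤ 27 := by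
    have hs : Function.Surjective
        (fun c : ZMod 3 × ZMod 3 × ZMod 3 => c.1 • v₁ + c.2.1 • v₂ + c.2.2 • v₃) := by
      intro v
      obtain ⟨c₁, c₂, c₃, hv⟩ := hspan v
      exact ⟨(c₁, c₂, c₃), hv.symm⟩
    have h := Nat.card_le_card_of_surjective _ hs
    have e : Nat.card (ZMod 3 × ZMod 3 × ZMod 3) = 27 := by
      rw [Nat.card_prod, Nat.card_prod, Nat.card_zmod]
    rw [e] at h
    exact h
  have h2 : 81 ≤ Nat.card V := by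
    have hi : Function.Injective
        (fun c : ZMod 3 × ZMod 3 × ZMod 3 × ZMod 3 =>
          c.1 • e₁ + c.2.1 • e₂ + c.2.2.1 • e₃ + c.2.2.2 • e₄) := by
      rintro ⟨a₁, a₂, a₃, a₄⟩ ⟨b₁, b₂, b₃, b₄⟩ hab
      simp only at hab
      have hz := hind (a₁ - b₁) (a₂ - b₂) (a₃ - b₃) (a₄ - b₄) (by
        simp only [sub_smul]
        rw [← sub_eq_zero] at hab
        rw [← hab]
        abel)
      obtain ⟨z1, z2, z3, z4⟩ := hz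
      rw [sub_eq_zero] at z1 z2 z3 z4
      subst z1 z2 z3 z4
      rfl
    have h := Nat.card_le_card_of_injective _ hi
    have e : Nat.card (ZMod 3 × ZMod 3 × ZMod 3 × ZMod 3) = 81 := by
      rw [Nat.card_prod, Nat.card_prod, Nat.card_prod, Nat.card_zmod]
    rw [e] at h
    exact h
  omega

/-- (α): not every element of `R` fixing the line of `e₄` is in `Z` -/
theorem m4b_alpha (c : Cfg ρ R b q₁ q₂ q₃ v₁ v₂ v₃) (e₁ e₂ e₃ e₄ : V)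
    (h : Mono4 ρ b e₁ e₂ e₃ e₄)
    (hfq : ∀ g : G, ∃ r ∈ R, g = r ∨ g = r * b ∨ g = r * (b * b))
    (hall : ∀ r ∈ R, M4Ln ρ r e₄ e₄ → IsZ ρ r) : False := by
  have hline : ∀ r ∈ R, ¬ IsZ ρ r → ∃ j : Fin 3, M4Ln ρ r e₄ (m4bF e₁ e₂ e₃ j) := by
    intro r hr hz
    obtain ⟨e', he', hre⟩ := h.2.2.1 r e₄ (by simp)
    simp only [Set.mem_insert_iff, Set.mem_singleton_iff] at he'
    rcases he' with rfl | rfl | rfl | rfl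
    · exact ⟨0, hre⟩
    · exact ⟨1, hre⟩
    · exact ⟨2, hre⟩
    · exact absurd (hall r hr hre) hz
  have hcos : ∀ x ∈ R, ∀ y ∈ R, ∀ f : V, M4Ln ρ x e₄ f → M4Ln ρ y e₄ f →
      IsZ ρ (x⁻¹ * y) := by
    intro x hx y hy f hxf hyf
    exact hall _ (R.mul_mem (R.inv_mem hx) hy) (m4b_ln_mul hyf (m4b_ln_inv hxf))
  have n1 := m4b_q1_not_isZ c
  have n2 := m4b_q1_not_isZ c.rot
  have n3 := m4b_q1_not_isZ c.rot.rot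
  obtain ⟨j₁, hj₁⟩ := hline q₁ c.q1R n1
  obtain ⟨j₂, hj₂⟩ := hline q₂ c.q2R n2
  obtain ⟨j₃, hj₃⟩ := hline q₃ c.q3R n3
  have i1 : q₁⁻¹ = q₁ := inv_eq_of_mul_eq_one_left c.q11
  have i2 : q₂⁻¹ = q₂ := inv_eq_of_mul_eq_one_left c.q22
  have d12 : j₁ ≠ j₂ := by
    rintro rfl
    have hh := hcos q₁ c.q1R q₂ c.q2R _ hj₁ hj₂
    rw [i1, c.q12] at hh
    exact n3 hh
  have d23 : j₂ ≠ j₃ := by
    rintro rfl
    have hh := hcos q₂ c.q2R q₃ c.q3R _ hj₂ hj₃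
    rw [i2, c.rot.q12] at hh
    exact n1 hh
  have d13 : j₁ ≠ j₃ := by
    rintro rfl
    have hh := hcos q₁ c.q1R q₃ c.q3R _ hj₁ hj₃
    rw [i1, c.rot.rot.q21] at hh
    exact n2 hh
  have pg : ∀ j j₁ j₂ j₃ : Fin 3, j₁ ≠ j₂ → j₂ ≠ j₃ → j₁ ≠ j₃ →
      j = j₁ ∨ j = j₂ ∨ j = j₃ := by decide
  have hcomm : ∀ r ∈ R, r * q₁ = q₁ * r ∧ r * q₂ = q₂ * r := by
    intro r hr
    by_cases hz : IsZ ρ r
    · exact ⟨m4b_isZ_comm c r hz q₁, m4b_isZ_comm c r hz q₂⟩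
    · obtain ⟨j, hj⟩ := hline r hr hz
      have key : ∀ q ∈ R, M4Ln ρ q e₄ (m4bF e₁ e₂ e₃ j) → q * q₁ = q₁ * q →
          q * q₂ = q₂ * q → (r * q₁ = q₁ * r ∧ r * q₂ = q₂ * r) := by
        intro q hq hqj c1 c2
        have hζ := hcos q hq r hr _ hqj hj
        have e : r = q * (q⁻¹ * r) := by group
        rw [e]
        exact ⟨m4b_comm_of q _ q₁ c1 (m4b_isZ_comm c _ hζ q₁),
          m4b_comm_of q _ q₂ c2 (m4b_isZ_comm c _ hζ q₂)⟩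
      rcases pg j j₁ j₂ j₃ d12 d23 d13 with e | e | e
      · rw [← e] at hj₁
        exact key q₁ c.q1R hj₁ rfl (c.q12.trans c.q21.symm)
      · rw [← e] at hj₂
        exact key q₂ c.q2R hj₂ (c.q21.trans c.q12.symm) rfl
      · rw [← e] at hj₃
        exact key q₃ c.q3R hj₃ (c.rot.rot.q12.trans c.rot.rot.q21.symm)
          (c.rot.q21.trans c.rot.q12.symm)
  have hCb : ∀ u ∈ m4bC ρ q₁ q₂, ρ b u ∈ m4bC ρ q₁ q₂ := by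
    intro u hu
    have hu1 : ρ q₁ u = u := hu.1
    have hu2 : ρ q₂ u = u := hu.2
    have h3 : ρ q₃ u = u := by rw [← c.q12, m4b_rho_mul, hu2, hu1]
    have e1 : q₁ * b = b * q₃ := by rw [← c.bq3]; group
    have e2 : q₂ * b = b * q₁ := by rw [← c.bq1]; group
    refine ⟨?_, ?_⟩
    · show ρ q₁ (ρ b u) = ρ b u
      rw [← m4b_rho_mul, e1, m4b_rho_mul, h3]
    · show ρ q₂ (ρ b u) = ρ b u
      rw [← m4b_rho_mul, e2, m4b_rho_mul, hu1]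
  have hCR : ∀ r ∈ R, ∀ u ∈ m4bC ρ q₁ q₂, ρ r u ∈ m4bC ρ q₁ q₂ := by
    intro r hr u hu
    have hu1 : ρ q₁ u = u := hu.1
    have hu2 : ρ q₂ u = u := hu.2
    refine ⟨?_, ?_⟩
    · show ρ q₁ (ρ r u) = ρ r u
      rw [← m4b_rho_mul, ← (hcomm r hr).1, m4b_rho_mul, hu1]
    · show ρ q₂ (ρ r u) = ρ r u
      rw [← m4b_rho_mul, ← (hcomm r hr).2, m4b_rho_mul, hu2]
  have hCG : ∀ g : G, ∀ u ∈ m4bC ρ q₁ q₂, ρ g u ∈ m4bC ρ q₁ q₂ := by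
    intro g u hu
    obtain ⟨r, hr, hg | hg | hg⟩ := hfq g
    · rw [hg]
      exact hCR r hr u hu
    · rw [hg, m4b_rho_mul]
      exact hCR r hr _ (hCb u hu)
    · rw [hg, m4b_rho_mul, m4b_rho_mul]
      exact hCR r hr _ (hCb _ (hCb u hu))
  rcases c.irr (m4bC ρ q₁ q₂) hCG with hC | hC
  · apply m4b_card e₁ e₂ e₃ e₄ v₁ v₂ v₃ h.2.1
    intro v
    obtain ⟨u, c₁, c₂, c₃, hv, hu1, hu2, -, -⟩ := c.dec v
    have hu : u ∈ m4bC ρ q₁ q₂ := ⟨hu1, hu2⟩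
    rw [hC, Submodule.mem_bot] at hu
    exact ⟨c₁, c₂, c₃, by rw [hv, hu, zero_add]⟩
  · have hv : v₁ ∈ m4bC ρ q₁ q₂ := by
      rw [hC]
      exact Submodule.mem_top
    have hv2 : ρ q₂ v₁ = v₁ := hv.2
    exact m4b_ne_neg v₁ c.v1 (hv2.symm.trans c.s21)

/-- an element of `R` fixing the line of `e₄` is diagonal -/
theorem m4b_diag (e₁ e₂ e₃ e₄ : V)
    (ha : ∀ r ∈ R, (∀ e ∈ ({e₁, e₂, e₃, e₄} : Set V), ρ r e = e ∨ ρ r e = -e) ∨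
      (∀ e ∈ ({e₁, e₂, e₃, e₄} : Set V), ρ r e ≠ e ∧ ρ r e ≠ -e ∧
        (ρ r (ρ r e) = e ∨ ρ r (ρ r e) = -e)))
    (r : G) (hr : r ∈ R) (ε₄ : ZMod 3) (h4 : ε₄ = 1 ∨ ε₄ = -1) (hr4 : ρ r e₄ = ε₄ • e₄) :
    ∃ ε₁ ε₂ ε₃ : ZMod 3, (ε₁ = 1 ∨ ε₁ = -1) ∧ (ε₂ = 1 ∨ ε₂ = -1) ∧ (ε₃ = 1 ∨ ε₃ = -1) ∧
      M4Dg ρ R e₁ e₂ e₃ e₄ r ε₁ ε₂ ε₃ ε₄ := by
  rcases ha r hr with hd | hd
  · obtain ⟨ε₁, s1, a1⟩ := m4b_sign (hd e₁ (by simp))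
    obtain ⟨ε₂, s2, a2⟩ := m4b_sign (hd e₂ (by simp))
    obtain ⟨ε₃, s3, a3⟩ := m4b_sign (hd e₃ (by simp))
    exact ⟨ε₁, ε₂, ε₃, s1, s2, s3, hr, a1, a2, a3, hr4⟩
  · exfalso
    have hh := hd e₄ (by simp)
    rcases h4 with rfl | rfl
    · exact hh.1 (by rw [hr4, one_smul])
    · exact hh.2.1 (by rw [hr4, neg_smul, one_smul])

/-- (β), first step: a diagonal element outside `Z` yields `(-,-,+,+)` -/
theorem m4b_beta1 (c : Cfg ρ R b q₁ q₂ q₃ v₁ v₂ v₃) (e₁ e₂ e₃ e₄ : V)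
    (h : Mono4 ρ b e₁ e₂ e₃ e₄) (hd4 : ∀ g : G, Det4 ρ g e₁ e₂ e₃ e₄)
    (r : G) (ε₁ ε₂ ε₃ ε₄ : ZMod 3) (s1 : ε₁ = 1 ∨ ε₁ = -1) (s2 : ε₂ = 1 ∨ ε₂ = -1)
    (s3 : ε₃ = 1 ∨ ε₃ = -1) (s4 : ε₄ = 1 ∨ ε₄ = -1)
    (hdg : M4Dg ρ R e₁ e₂ e₃ e₄ r ε₁ ε₂ ε₃ ε₄) (hz : ¬ IsZ ρ r) :
    ∃ d : G, M4Dg ρ R e₁ e₂ e₃ e₄ d (-1) (-1) 1 1 := by
  have hdet := (hd4 r).1 ε₁ ε₂ ε₃ ε₄ hdg.2.1 hdg.2.2.1 hdg.2.2.2.1 hdg.2.2.2.2
  have hc := m4b_dg_conj c h hdg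
  have hcc := m4b_dg_conj c h hc
  rcases s1 with rfl | rfl <;> rcases s2 with rfl | rfl <;> rcases s3 with rfl | rfl <;>
    rcases s4 with rfl | rfl
  all_goals first
    | exact absurd hdet (by decide)
    | exact absurd (Or.inl (c.faith r (fun v => by rw [m4b_dg_scalar h hdg v, one_smul]))) hz
    | exact absurd (Or.inr (fun v => by rw [m4b_dg_scalar h hdg v, neg_smul, one_smul])) hz
    | exact ⟨_, m4b_dg_congr hdg (by decide) (by decide) (by decide) (by decide)⟩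
    | exact ⟨_, m4b_dg_congr hc (by decide) (by decide) (by decide) (by decide)⟩
    | exact ⟨_, m4b_dg_congr hcc (by decide) (by decide) (by decide) (by decide)⟩
    | exact ⟨_, m4b_dg_congr (m4b_dg_mul hdg hc) (by decide) (by decide) (by decide)
        (by decide)⟩
    | exact ⟨_, m4b_dg_congr (m4b_dg_mul hdg hcc) (by decide) (by decide) (by decide)
        (by decide)⟩
    | exact ⟨_, m4b_dg_congr (m4b_dg_mul hc hcc) (by decide) (by decide) (by decide)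
        (by decide)⟩

/-- (β), second step: from `(-,-,+,+)` to `-1` -/
theorem m4b_beta2 (c : Cfg ρ R b q₁ q₂ q₃ v₁ v₂ v₃) (e₁ e₂ e₃ e₄ : V)
    (h : Mono4 ρ b e₁ e₂ e₃ e₄)
    (ha : ∀ r ∈ R, (∀ e ∈ ({e₁, e₂, e₃, e₄} : Set V), ρ r e = e ∨ ρ r e = -e) ∨
      (∀ e ∈ ({e₁, e₂, e₃, e₄} : Set V), ρ r e ≠ e ∧ ρ r e ≠ -e ∧
        (ρ r (ρ r e) = e ∨ ρ r (ρ r e) = -e)))
    (hd4 : ∀ g : G, Det4 ρ g e₁ e₂ e₃ e₄)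
    (d₀ : G) (hd₀ : M4Dg ρ R e₁ e₂ e₃ e₄ d₀ (-1) (-1) 1 1) :
    ∃ z : G, M4Dg ρ R e₁ e₂ e₃ e₄ z (-1) (-1) (-1) (-1) := by
  have hd₁ := m4b_dg_conj c h hd₀
  have hd₂ := m4b_dg_conj c h hd₁
  obtain ⟨g, hg⟩ := h.2.2.2.1 e₁ (by simp)
  have hrR : g⁻¹ * d₀ * g ∈ R := by
    have hh := c.Rn.conj_mem d₀ hd₀.1 g⁻¹
    rw [inv_inv] at hh
    exact hh
  have hr4 : ρ (g⁻¹ * d₀ * g) e₄ = (-1 : ZMod 3) • e₄ := by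
    rcases hg with hg | hg
    · rw [m4b_rho_mul, m4b_rho_mul, hg, hd₀.2.1, map_smul, m4b_rho_inv ρ g e₄ e₁ hg]
    · have hg' : ρ g (-e₄) = e₁ := by rw [map_neg, hg, neg_neg]
      rw [m4b_rho_mul, m4b_rho_mul, hg, map_neg, hd₀.2.1, map_neg, map_smul,
        m4b_rho_inv ρ g (-e₄) e₁ hg']
      simp
  obtain ⟨ε₁, ε₂, ε₃, s1, s2, s3, hr'⟩ :=
    m4b_diag e₁ e₂ e₃ e₄ ha (g⁻¹ * d₀ * g) hrR (-1) (Or.inr rfl) hr4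
  have hdet := (hd4 (g⁻¹ * d₀ * g)).1 ε₁ ε₂ ε₃ (-1) hr'.2.1 hr'.2.2.1 hr'.2.2.2.1 hr'.2.2.2.2
  rcases s1 with rfl | rfl <;> rcases s2 with rfl | rfl <;> rcases s3 with rfl | rfl
  all_goals first
    | exact absurd hdet (by decide)
    | exact ⟨_, m4b_dg_congr hr' (by decide) (by decide) (by decide) (by decide)⟩
    | exact ⟨_, m4b_dg_congr (m4b_dg_mul hr' hd₀) (by decide) (by decide) (by decide)
        (by decide)⟩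
    | exact ⟨_, m4b_dg_congr (m4b_dg_mul hr' hd₁) (by decide) (by decide) (by decide)
        (by decide)⟩
    | exact ⟨_, m4b_dg_congr (m4b_dg_mul hr' hd₂) (by decide) (by decide) (by decide)
        (by decide)⟩

/-- M4b. `R` contains `-1` and the diagonal element `(-,-,+,+)`. -/
theorem m4b (c : Cfg ρ R b q₁ q₂ q₃ v₁ v₂ v₃) (e₁ e₂ e₃ e₄ : V)
    (h : Mono4 ρ b e₁ e₂ e₃ e₄)
    (ha : ∀ r ∈ R, (∀ e ∈ ({e₁, e₂, e₃, e₄} : Set V), ρ r e = e ∨ ρ r e = -e) ∨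
      (∀ e ∈ ({e₁, e₂, e₃, e₄} : Set V), ρ r e ≠ e ∧ ρ r e ≠ -e ∧
        (ρ r (ρ r e) = e ∨ ρ r (ρ r e) = -e)))
    (hd4 : ∀ g : G, Det4 ρ g e₁ e₂ e₃ e₄)
    (hfq : ∀ g : G, ∃ r ∈ R, g = r ∨ g = r * b ∨ g = r * (b * b)) :
    (∃ z ∈ R, ∀ v : V, ρ z v = -v) ∧
      ∃ d ∈ R, ρ d e₁ = -e₁ ∧ ρ d e₂ = -e₂ ∧ ρ d e₃ = e₃ ∧ ρ d e₄ = e₄ := by
  by_cases hall : ∀ r ∈ R, M4Ln ρ r e₄ e₄ → IsZ ρ r
  · exact (m4b_alpha c e₁ e₂ e₃ e₄ h hfq hall).elim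
  · simp only [not_forall] at hall
    obtain ⟨r, hr, hr4, hz⟩ := hall
    obtain ⟨ε₄, s4, hr4'⟩ := m4b_sign hr4
    obtain ⟨ε₁, ε₂, ε₃, s1, s2, s3, hdg⟩ := m4b_diag e₁ e₂ e₃ e₄ ha r hr ε₄ s4 hr4'
    obtain ⟨d₀, hd₀⟩ := m4b_beta1 c e₁ e₂ e₃ e₄ h hd4 r ε₁ ε₂ ε₃ ε₄ s1 s2 s3 s4 hdg hz
    obtain ⟨z, hz'⟩ := m4b_beta2 c e₁ e₂ e₃ e₄ h ha hd4 d₀ hd₀
    refine ⟨⟨z, hz'.1, fun v => ?_⟩, d₀, hd₀.1, ?_, ?_, ?_, ?_⟩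
    · rw [m4b_dg_scalar h hz' v, neg_smul, one_smul]
    · rw [hd₀.2.1, neg_smul, one_smul]
    · rw [hd₀.2.2.1, neg_smul, one_smul]
    · rw [hd₀.2.2.2.1, one_smul]
    · rw [hd₀.2.2.2.2, one_smul]

end Cfsg.Agent.Helper80.N15
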