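import Mathlib
import Cfsg.Agent.Helper62.P15Defs

/-! Piece NORM of CALL P15 (helper62, row S1437). -/

set_option autoImplicit false

namespace Cfsg.Agent.Helper80

open Cfsg Subgroup
open Cfsg.Agent.Helper62

universe u

section Amb

variable {G : Type u} [Group G] [Finite G]

variable {M L Q K Z : Subgroup G} {q : ℕ}

/-- NORM [M]. A subgroup `X` with `Φ(Q) ≤ X ≤ Q` normalized by `D₁` and `K` is normalized by
`M`: every `m ∈ M` is `y * d * k` (`M ≤ L ⊔ K`, `K ≤ N(L)`, `L = Q D₁`), and `Q` normalizes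
`X` because `y x y⁻¹ x⁻¹ ∈ Φ(Q) ≤ X` (hypothesis `hΦel`, which is FR). -/
theorem p15_norm (h : P15 M L Q K Z q) (D₁ : Subgroup G) (hD : IsComplIn Q D₁ L)
    (hΦel : ∀ a ∈ Q, ∀ b ∈ Q, a * b * a⁻¹ * b⁻¹ ∈ p15Phi Q)
    (X : Subgroup G) (hΦX : p15Phi Q ≤ X) (hXQ : X ≤ Q)
    (hDX : D₁ ≤ normalizer (X : Set G)) (hKX : K ≤ normalizer (X : Set G)) :
    M ≤ normalizer (X : Set G) := by
  have hQX : Q ≤ normalizer (X : Set G) := by
    rw [le_normalizer_iff]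
    intro y hy x hx
    have h1 := hΦX (hΦel y hy x (hXQ hx))
    have h2 := X.mul_mem h1 hx
    rwa [inv_mul_cancel_right] at h2
  have hKL : K ≤ normalizer (L : Set G) := h.hKM.trans h.hLn
  intro m hm
  have hm' : m ∈ ((L ⊔ K : Subgroup G) : Set G) := h.hM hm
  rw [coe_mul_of_right_le_normalizer_left _ _ hKL, Set.mem_mul] at hm'
  obtain ⟨l, hl, k, hk, rfl⟩ := hm'
  obtain ⟨y, hy, d, hd, rfl⟩ := hD.2.2.2 l hl
  exact Subgroup.mul_mem _ (Subgroup.mul_mem _ (hQX hy) (hDX hd)) (hKX hk)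

end Amb

end Cfsg.Agent.Helper80
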