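/-
Helper library of seat helper80: group theory for blocks of principal type in `p`-constrained
groups: coprime lifting of fixed points, `C_{G/K}(L/K) ≤ L/K` from `C_G(Q) ≤ L`, and the
self-centralizing normal `p`-subgroup of `C_G(R) / C_K(R)` (Thompson's `A × B` lemma).
-/
import Cfsg.Agent.Helper48.ThompsonAB

set_option autoImplicit false

namespace Cfsg.Agent.Helper80

universe u

section CoprimeLift

variable {G : Type u} [Group G] [Finite G]

/-- **Coprime lifting of fixed points**: if `K ⊴ G` has order prime to `p`, `R` is a `p`-subgroup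
and the image of `x` in `G/K` is centralized by `R`, then the coset `xK` contains an element
centralizing `R`. -/
theorem exists_mul_mem_centralizer_of_coprime {p : ℕ} [hp : Fact p.Prime] (K : Subgroup G)
    [hK : K.Normal] (hKp : ¬ p ∣ Nat.card K) (R : Subgroup G) (hR : IsPGroup p R) (x : G)
    (hx : ∀ r ∈ R, r * x * r⁻¹ * x⁻¹ ∈ K) :
    ∃ k ∈ K, x * k ∈ Subgroup.centralizer (R : Set G) := by
  classical
  have hmem : ∀ (r : R) (k : K), x⁻¹ * (r : G) * x * (k : G) * (r : G)⁻¹ ∈ K := by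
    intro r k
    have h1 : x⁻¹ * ((r : G) * x * (r : G)⁻¹ * x⁻¹) * x⁻¹⁻¹ ∈ K :=
      hK.conj_mem _ (hx r r.2) x⁻¹
    have h2 : (r : G) * (k : G) * (r : G)⁻¹ ∈ K := hK.conj_mem _ k.2 r
    have h3 := K.mul_mem h1 h2
    have e : x⁻¹ * ((r : G) * x * (r : G)⁻¹ * x⁻¹) * x⁻¹⁻¹ * ((r : G) * (k : G) * (r : G)⁻¹)
        = x⁻¹ * (r : G) * x * (k : G) * (r : G)⁻¹ := by group
    rwa [e] at h3
  let act : MulAction R K :=
    { smul := fun r k => ⟨x⁻¹ * (r : G) * x * (k : G) * (r : G)⁻¹, hmem r k⟩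
      one_smul := by
        intro k
        apply Subtype.ext
        show x⁻¹ * ((1 : R) : G) * x * (k : G) * ((1 : R) : G)⁻¹ = (k : G)
        rw [Subgroup.coe_one]
        group
      mul_smul := by
        intro r s k
        apply Subtype.ext
        show x⁻¹ * ((r * s : R) : G) * x * (k : G) * ((r * s : R) : G)⁻¹
          = x⁻¹ * (r : G) * x * (x⁻¹ * (s : G) * x * (k : G) * (s : G)⁻¹) * (r : G)⁻¹
        rw [Subgroup.coe_mul]
        group }
  obtain ⟨k, hk⟩ := hR.nonempty_fixed_point_of_prime_not_dvd_card K hKp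
  refine ⟨(k : G), k.2, ?_⟩
  rw [Subgroup.mem_centralizer_iff]
  intro r hr
  have h1 : (⟨r, hr⟩ : R) • k = k := hk ⟨r, hr⟩
  have h2 : x⁻¹ * r * x * (k : G) * r⁻¹ = (k : G) := congrArg Subtype.val h1
  calc r * (x * (k : G)) = x * (x⁻¹ * r * x * (k : G) * r⁻¹) * r := by group
    _ = x * (k : G) * r := by rw [h2]

/-- If `Q` is a `p`-subgroup of the preimage `L` of `P̄ ≤ G/K` (`K` a normal `p'`-subgroup) and
`C_G(Q) ≤ L`, then `C_{G/K}(P̄) ≤ P̄`. -/
theorem centralizer_le_of_centralizer_le_comap {p : ℕ} [hp : Fact p.Prime] (K : Subgroup G)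
    [hK : K.Normal] (hKp : ¬ p ∣ Nat.card K) (Pb : Subgroup (G ⧸ K)) (Q : Subgroup G)
    (hQ : IsPGroup p Q) (hQP : Q ≤ Pb.comap (QuotientGroup.mk' K))
    (hC : Subgroup.centralizer (Q : Set G) ≤ Pb.comap (QuotientGroup.mk' K)) :
    Subgroup.centralizer (Pb : Set (G ⧸ K)) ≤ Pb := by
  intro xb hxb
  obtain ⟨x, rfl⟩ := QuotientGroup.mk'_surjective K xb
  have hx : ∀ q ∈ Q, q * x * q⁻¹ * x⁻¹ ∈ K := by
    intro q hq
    have h1 := Subgroup.mem_centralizer_iff.mp hxb _ (hQP hq)
    rw [← QuotientGroup.eq_one_iff]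
    have h2 : ((q * x * q⁻¹ * x⁻¹ : G) : G ⧸ K)
        = (QuotientGroup.mk' K) q * (QuotientGroup.mk' K) x * ((QuotientGroup.mk' K) q)⁻¹ *
          ((QuotientGroup.mk' K) x)⁻¹ := rfl
    rw [h2, h1]
    group
  obtain ⟨k, hk, hxk⟩ := exists_mul_mem_centralizer_of_coprime K hKp Q hQ x hx
  have h3 := hC hxk
  rw [Subgroup.mem_comap] at h3
  have e : (QuotientGroup.mk' K) (x * k) = (QuotientGroup.mk' K) x := by
    rw [map_mul]
    have : (QuotientGroup.mk' K) k = 1 := (QuotientGroup.eq_one_iff k).mpr hk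
    rw [this, mul_one]
  rwa [e] at h3

/-- **The centralizer of a `p`-subgroup in a `p`-constrained group is `p`-constrained**: if
`K ⊴ G` is a `p'`-group, `P̄ ⊴ G/K` a `p`-group with `C_{G/K}(P̄) ≤ P̄` and `R` a `p`-subgroup with
centralizer `H`, then `H / (K ∩ H)` has a normal `p`-subgroup containing its centralizer. -/
theorem exists_selfCentralizing_centralizer {p : ℕ} [hp : Fact p.Prime] (K : Subgroup G)
    [hK : K.Normal] (hKp : ¬ p ∣ Nat.card K) (Pb : Subgroup (G ⧸ K)) [hPn : Pb.Normal]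
    (hPb : IsPGroup p Pb) (hCP : Subgroup.centralizer (Pb : Set (G ⧸ K)) ≤ Pb)
    (R : Subgroup G) (hR : IsPGroup p R) :
    ∃ Pn : Subgroup (↥(Subgroup.centralizer (R : Set G)) ⧸
        K.subgroupOf (Subgroup.centralizer (R : Set G))),
      Pn.Normal ∧ IsPGroup p Pn ∧ Subgroup.centralizer (Pn : Set _) ≤ Pn := by
  classical
  have hpp : p.Prime := hp.out
  set H := Subgroup.centralizer (R : Set G) with hH
  set K' := K.subgroupOf H with hK'
  let ι : H ⧸ K' →* G ⧸ K := QuotientGroup.map K' K H.subtype (fun x hx => hx)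
  have hιmk : ∀ h : H, ι (QuotientGroup.mk h) = (QuotientGroup.mk' K) (h : G) := fun h => rfl
  have hι : Function.Injective ι := by
    rw [injective_iff_map_eq_one]
    intro y hy
    obtain ⟨h, rfl⟩ := QuotientGroup.mk_surjective y
    rw [hιmk] at hy
    have h1 : (h : G) ∈ K := (QuotientGroup.eq_one_iff _).mp hy
    exact (QuotientGroup.eq_one_iff h).mpr h1
  set D := Pb.comap ι with hD
  haveI hDn : D.Normal := hPn.comap ι
  have hDp : IsPGroup p D := hPb.comap_of_injective ι hι
  set X := Subgroup.centralizer (D : Set (H ⧸ K')) with hX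
  haveI hXn : X.Normal := Subgroup.normal_centralizer
  -- `p'`-elements of `X` are trivial
  have key : ∀ y ∈ X, (orderOf y).Coprime p → y = 1 := by
    intro y hy hyo
    obtain ⟨h₀, rfl⟩ := QuotientGroup.mk_surjective y
    set yb := ι (QuotientGroup.mk h₀) with hyb
    have hyb' : yb = (QuotientGroup.mk' K) (h₀ : G) := rfl
    have hybo : (orderOf yb).Coprime p :=
      Nat.Coprime.coprime_dvd_left (orderOf_map_dvd ι _) hyo
    set A := R.map (QuotientGroup.mk' K) with hA
    set B := Subgroup.zpowers yb with hB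
    have hAp : IsPGroup p A := hR.map _
    have hBp : ¬ p ∣ Nat.card B := by
      rw [hB, Nat.card_zpowers]
      intro h
      have h2 : p ∣ Nat.gcd (orderOf yb) p := Nat.dvd_gcd h dvd_rfl
      rw [hybo] at h2
      exact hpp.one_lt.ne' (Nat.dvd_one.mp h2)
    have hybA : yb ∈ Subgroup.centralizer (A : Set (G ⧸ K)) := by
      rw [Subgroup.mem_centralizer_iff]
      rintro _ ⟨r, hr, rfl⟩
      have h1 : r * (h₀ : G) = (h₀ : G) * r :=
        Subgroup.mem_centralizer_iff.mp h₀.2 r hr
      rw [hyb', ← map_mul, ← map_mul, h1]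
    have hAB : ⁅A, B⁆ = ⊥ := by
      rw [Subgroup.commutator_eq_bot_iff_le_centralizer, Subgroup.le_centralizer_iff, hB,
        Subgroup.zpowers_le]
      exact hybA
    have hnA : A ≤ Subgroup.normalizer (Pb : Set (G ⧸ K)) := by
      rw [Subgroup.normalizer_eq_top]; exact le_top
    have hnB : B ≤ Subgroup.normalizer (Pb : Set (G ⧸ K)) := by
      rw [Subgroup.normalizer_eq_top]; exact le_top
    have hC' : Pb ⊓ Subgroup.centralizer (A : Set (G ⧸ K))
        ≤ Subgroup.centralizer (B : Set (G ⧸ K)) := by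
      intro d hd
      obtain ⟨hd1, hd2⟩ := Subgroup.mem_inf.mp hd
      obtain ⟨l, rfl⟩ := QuotientGroup.mk'_surjective K d
      have hl : ∀ r ∈ R, r * l * r⁻¹ * l⁻¹ ∈ K := by
        intro r hr
        have h1 := Subgroup.mem_centralizer_iff.mp hd2 _ (Subgroup.mem_map_of_mem _ hr)
        rw [← QuotientGroup.eq_one_iff]
        have h2 : ((r * l * r⁻¹ * l⁻¹ : G) : G ⧸ K)
            = (QuotientGroup.mk' K) r * (QuotientGroup.mk' K) l * ((QuotientGroup.mk' K) r)⁻¹ *
              ((QuotientGroup.mk' K) l)⁻¹ := rfl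
        rw [h2, h1]
        group
      obtain ⟨k, hk, hlk⟩ := exists_mul_mem_centralizer_of_coprime K hKp R hR l hl
      have e : (QuotientGroup.mk' K) (l * k) = (QuotientGroup.mk' K) l := by
        rw [map_mul]
        have : (QuotientGroup.mk' K) k = 1 := (QuotientGroup.eq_one_iff k).mpr hk
        rw [this, mul_one]
      set yt : H ⧸ K' := QuotientGroup.mk (⟨l * k, hlk⟩ : H) with hyt
      have hytι : ι yt = (QuotientGroup.mk' K) l := by
        rw [hyt, hιmk]; exact e
      have hytD : yt ∈ D := by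
        rw [hD, Subgroup.mem_comap, hytι]; exact hd1
      have hcomm : yt * QuotientGroup.mk h₀ = QuotientGroup.mk h₀ * yt :=
        Subgroup.mem_centralizer_iff.mp hy yt hytD
      have hcomm' : (QuotientGroup.mk' K) l * yb = yb * (QuotientGroup.mk' K) l := by
        have := congrArg ι hcomm
        rwa [map_mul, map_mul, hytι] at this
      have hyd : yb ∈ Subgroup.centralizer ({(QuotientGroup.mk' K) l} : Set (G ⧸ K)) := by
        rw [Subgroup.mem_centralizer_iff]
        intro z hz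
        rw [Set.mem_singleton_iff] at hz
        rw [hz]; exact hcomm'
      have hBle : B ≤ Subgroup.centralizer ({(QuotientGroup.mk' K) l} : Set (G ⧸ K)) := by
        rw [hB, Subgroup.zpowers_le]; exact hyd
      rw [Subgroup.mem_centralizer_iff]
      intro b hb
      have := Subgroup.mem_centralizer_iff.mp (hBle hb) _ (Set.mem_singleton _)
      exact this.symm
    have hth := Helper48.thompson_AxB Pb A B hPb hAp hBp hAB hnA hnB hC'
    have hybP : yb ∈ Subgroup.centralizer (Pb : Set (G ⧸ K)) := by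
      rw [Subgroup.mem_centralizer_iff]
      intro d hd
      have := Subgroup.mem_centralizer_iff.mp (hth hd) yb (Subgroup.mem_zpowers yb)
      exact this.symm
    have hybPb : yb ∈ Pb := hCP hybP
    obtain ⟨k, hk⟩ := hPb ⟨yb, hybPb⟩
    have hk' : yb ^ p ^ k = 1 := by
      have := congrArg Subtype.val hk
      simpa using this
    have h4 : orderOf yb ∣ p ^ k := orderOf_dvd_of_pow_eq_one hk'
    have h5 : orderOf yb = 1 := Nat.Coprime.eq_one_of_dvd (Nat.Coprime.pow_right k hybo) h4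
    have h6 : yb = 1 := orderOf_eq_one_iff.mp h5
    apply hι
    rw [map_one]
    exact h6
  have hXp : IsPGroup p X := by
    intro y
    have hn : orderOf (y : H ⧸ K') ≠ 0 := (orderOf_pos _).ne'
    obtain ⟨k, m, hm, hkm⟩ := Nat.exists_eq_pow_mul_and_not_dvd hn p hpp.ne_one
    refine ⟨k, ?_⟩
    apply Subtype.ext
    rw [Subgroup.coe_pow, Subgroup.coe_one]
    apply key _ (X.pow_mem y.2 _)
    have h1 : ((y : H ⧸ K') ^ p ^ k) ^ m = 1 := by
      rw [← pow_mul, ← hkm, pow_orderOf_eq_one]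
    exact Nat.Coprime.coprime_dvd_left (orderOf_dvd_of_pow_eq_one h1)
      ((Nat.Prime.coprime_iff_not_dvd hpp).mpr hm).symm
  refine ⟨D ⊔ X, Subgroup.sup_normal D X, hDp.to_sup_of_normal_left hXp, ?_⟩
  calc Subgroup.centralizer ((D ⊔ X : Subgroup (H ⧸ K')) : Set (H ⧸ K'))
      ≤ Subgroup.centralizer (D : Set (H ⧸ K')) :=
        Subgroup.centralizer_le (by
          intro z hz
          exact (le_sup_left : D ≤ D ⊔ X) hz)
    _ ≤ D ⊔ X := le_sup_right

end CoprimeLift

end Cfsg.Agent.Helper80
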