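import Cfsg.Agent.Helper77.PrincipalDefect
import Cfsg.Agent.Helper77.PRegular
import Cfsg.Agent.Helper80.LinChar
import Cfsg.Agent.Helper3.Induced

/-!
# Linear characters in the principal block (helper80)

* `homIrr_mem_principalBlock_iff`: membership of a linear character in the principal block.
* `principalLin M hM P`: the subgroup of `G →* ℂˣ` of homomorphisms lying in the principal block
  and trivial on `P`.
* `card_block_linear_restrict_congr`: if every nonlinear character of a block `B` has degree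
  divisible by `p`, then the number of linear characters of `B` restricting to a given
  homomorphism `μ` of a `p`-subgroup `P` is independent of `μ` modulo `p`.
* `exists_hom_extension_of_principal`: Isaacs–Smith: if every nonlinear character of the
  principal block has degree divisible by `p`, every linear character of a Sylow `p`-subgroup
  extends to `G`.

Everything is in `namespace Cfsg.Agent.Helper80`.
-/

set_option autoImplicit false

namespace Cfsg.Agent.Helper80

open Cfsg

open scoped ComplexConjugate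

universe u

variable {G : Type u} [Group G]

theorem centralChar_one (x : G) :
    centralChar (fun _ : G => (1 : ℂ)) x
      = ((Subgroup.centralizer ({x} : Set G)).index : ℂ) := by
  unfold centralChar
  simp

theorem centralChar_homIrr (f : G →* ℂˣ) (x : G) :
    centralChar (homIrr f : G → ℂ) x
      = ((Subgroup.centralizer ({x} : Set G)).index : ℂ) * ((f x : ℂˣ) : ℂ) := by
  unfold centralChar
  rw [homIrr_apply, homIrr_apply, map_one]
  simp

theorem homIrr_mem_principalBlock_iff (M : Ideal AlgInt) (f : G →* ℂˣ) :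
    homIrr f ∈ principalBlock M G ↔ ∀ x : G, MemLocalIdeal M
      (((Subgroup.centralizer ({x} : Set G)).index : ℂ) * (1 - ((f x : ℂˣ) : ℂ))) := by
  show (∀ x : G, MemLocalIdeal M (centralChar (fun _ : G => (1 : ℂ)) x
    - centralChar (homIrr f : G → ℂ) x)) ↔ _
  refine forall_congr' fun x => ?_
  rw [centralChar_one, centralChar_homIrr, mul_sub, mul_one]

theorem isIntegral_hom_apply [Finite G] (f : G →* ℂˣ) (x : G) :
    IsIntegral ℤ ((f x : ℂˣ) : ℂ) := by
  have hpos : 0 < orderOf x := orderOf_pos x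
  have h1 : ((f x : ℂˣ) : ℂ) ^ orderOf x = 1 := by
    rw [← Units.val_pow_eq_pow_val, ← map_pow, pow_orderOf_eq_one, map_one, Units.val_one]
  exact IsIntegral.of_pow hpos (by rw [h1]; exact isIntegral_one)

/-- The homomorphisms `G →* ℂˣ` in the principal block that are trivial on `P`. -/
def principalLin [Finite G] (M : Ideal AlgInt) (hM : M.IsMaximal) (P : Subgroup G) :
    Subgroup (G →* ℂˣ) where
  carrier := {f | homIrr f ∈ principalBlock M G ∧ ∀ y ∈ P, f y = 1}
  one_mem' := by
    refine ⟨?_, fun y _ => rfl⟩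
    rw [homIrr_mem_principalBlock_iff]
    intro x
    have : (((1 : G →* ℂˣ) x : ℂˣ) : ℂ) = 1 := rfl
    rw [this, sub_self, mul_zero]
    exact Helper77.memLocalIdeal_zero hM
  mul_mem' := by
    rintro f g ⟨hf, hf'⟩ ⟨hg, hg'⟩
    refine ⟨?_, fun y hy => by rw [MonoidHom.mul_apply, hf' y hy, hg' y hy, mul_one]⟩
    rw [homIrr_mem_principalBlock_iff] at hf hg ⊢
    intro x
    have h1 := hf x
    have h2 := Helper77.memLocalIdeal_mul hM
      (Helper77.memLocalRing_of_isIntegral hM (isIntegral_hom_apply f x)) (hg x)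
    have h3 := Helper77.memLocalIdeal_add hM h1 h2
    have e : ((Subgroup.centralizer ({x} : Set G)).index : ℂ) * (1 - (((f * g) x : ℂˣ) : ℂ))
        = ((Subgroup.centralizer ({x} : Set G)).index : ℂ) * (1 - ((f x : ℂˣ) : ℂ))
          + ((f x : ℂˣ) : ℂ) * (((Subgroup.centralizer ({x} : Set G)).index : ℂ)
            * (1 - ((g x : ℂˣ) : ℂ))) := by
      rw [MonoidHom.mul_apply, Units.val_mul]
      ring
    rw [e]
    exact h3
  inv_mem' := by
    rintro f ⟨hf, hf'⟩
    refine ⟨?_, fun y hy => by rw [MonoidHom.inv_apply, hf' y hy, inv_one]⟩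
    rw [homIrr_mem_principalBlock_iff] at hf ⊢
    intro x
    have h2 := Helper77.memLocalIdeal_mul hM
      (Helper77.memLocalRing_of_isIntegral hM (isIntegral_hom_apply f⁻¹ x)) (hf x)
    have h3 := Helper77.memLocalIdeal_neg h2
    have hne : ((f x : ℂˣ) : ℂ) ≠ 0 := Units.ne_zero _
    have e : ((Subgroup.centralizer ({x} : Set G)).index : ℂ) * (1 - ((f⁻¹ x : ℂˣ) : ℂ))
        = -(((f⁻¹ x : ℂˣ) : ℂ) * (((Subgroup.centralizer ({x} : Set G)).index : ℂ)
            * (1 - ((f x : ℂˣ) : ℂ)))) := by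
      rw [MonoidHom.inv_apply, Units.val_inv_eq_inv_val]
      field_simp
      ring
    rw [e]
    exact h3

theorem mem_principalLin [Finite G] (M : Ideal AlgInt) (hM : M.IsMaximal) (P : Subgroup G)
    (f : G →* ℂˣ) :
    f ∈ principalLin M hM P ↔ homIrr f ∈ principalBlock M G ∧ ∀ y ∈ P, f y = 1 := Iff.rfl

/-- A homomorphism to `ℂˣ` killed by `p` and trivial on a subgroup of index prime to `p` is
trivial. -/
theorem hom_eq_one_of_pow_eq_one [Finite G] {p : ℕ} [Fact p.Prime] (P : Subgroup G)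
    (hP : ¬ p ∣ P.index) (f : G →* ℂˣ) (hf : f ^ p = 1) (hfP : ∀ y ∈ P, f y = 1) : f = 1 := by
  have hp : p.Prime := Fact.out
  have hle : P ≤ f.ker := fun y hy => MonoidHom.mem_ker.mpr (hfP y hy)
  have h1 : f.ker.index ∣ P.index := Subgroup.index_dvd_of_le hle
  have h2 : IsPGroup p f.range := by
    rintro ⟨y, g, rfl⟩
    refine ⟨1, ?_⟩
    apply Subtype.ext
    rw [pow_one]
    show f g ^ p = 1
    have := congrArg (fun h : G →* ℂˣ => h g) hf
    simpa [MonoidHom.pow_apply] using this
  have hfin : Finite f.range := Finite.of_surjective f.rangeRestrict f.rangeRestrict_surjective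
  obtain ⟨n, hn⟩ := IsPGroup.iff_card.mp h2
  have h3 : f.ker.index = p ^ n := by rw [Subgroup.index_ker, hn]
  have hn0 : n = 0 := by
    by_contra hne
    apply hP
    exact dvd_trans (h3 ▸ dvd_pow_self p hne) h1
  rw [hn0, pow_zero] at h3
  have h4 : f.ker = ⊤ := Subgroup.index_eq_one.mp h3
  ext g
  have : g ∈ f.ker := h4 ▸ Subgroup.mem_top g
  rw [MonoidHom.mem_ker.mp this]
  rfl

theorem card_principalLin_not_dvd [Finite G] {p : ℕ} [Fact p.Prime] (M : Ideal AlgInt)
    (hM : M.IsMaximal) (P : Subgroup G) (hP : ¬ p ∣ P.index) :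
    ¬ p ∣ Nat.card (principalLin M hM P) := by
  intro hdvd
  have : Finite (G →* ℂˣ) := finite_hom
  obtain ⟨f, hf⟩ := exists_prime_orderOf_dvd_card' (G := principalLin M hM P) p hdvd
  have hf1 : (f : G →* ℂˣ) ^ p = 1 := by
    have := pow_orderOf_eq_one f
    rw [hf] at this
    exact_mod_cast congrArg Subtype.val this
  have h1 : (f : G →* ℂˣ) = 1 := hom_eq_one_of_pow_eq_one P hP f hf1 f.2.2
  have h2 : f = 1 := Subtype.ext h1
  rw [h2, orderOf_one] at hf
  exact (Fact.out : p.Prime).one_lt.ne hf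

/-- In a `p`-subgroup, nonidentity elements have order divisible by `p`. -/
theorem dvd_orderOf_of_isPGroup {p : ℕ} [Fact p.Prime] (P : Subgroup G) (hP : IsPGroup p P)
    (y : P) (hy : y ≠ 1) : p ∣ orderOf (y : G) := by
  have hp : p.Prime := Fact.out
  obtain ⟨k, hk⟩ := hP y
  have h1 : orderOf y ∣ p ^ k := orderOf_dvd_of_pow_eq_one hk
  obtain ⟨j, -, hj⟩ := (Nat.dvd_prime_pow hp).mp h1
  rw [Subgroup.orderOf_coe, hj]
  have hj0 : j ≠ 0 := by
    rintro rfl
    rw [pow_zero, orderOf_eq_one_iff] at hj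
    exact hy hj
  exact dvd_pow_self p hj0

/-- The restriction multiplicity sum: `∑_{χ ∈ B} χ(1) [χ_P, μ] = |P|⁻¹ ∑_{χ ∈ B} χ(1)²`. -/
theorem sum_block_degree_mul_classInner [Fintype G] [Fintype (IrrCharacter G)] {p : ℕ}
    [Fact p.Prime] {M : Ideal AlgInt} (hM : IsPModular p M) {B : Set (IrrCharacter G)}
    (hB : IsPBlock M B) [DecidablePred (fun χ => χ ∈ B)] (P : Subgroup G) [Fintype P]
    (hP : IsPGroup p P) (μ : P →* ℂˣ) :
    ∑ χ : IrrCharacter G, (if χ ∈ B then (χ : G → ℂ) 1 *
        classInner (fun y : P => (χ : G → ℂ) y) (fun y : P => ((μ y : ℂˣ) : ℂ)) else 0)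
      = (Nat.card P : ℂ)⁻¹ * ∑ χ : IrrCharacter G,
          (if χ ∈ B then (χ : G → ℂ) 1 * (χ : G → ℂ) 1 else 0) := by
  classical
  have hw : ∀ y : P, y ≠ 1 →
      ∑ χ : IrrCharacter G, (if χ ∈ B then (χ : G → ℂ) 1 * (χ : G → ℂ) y else 0) = 0 := by
    intro y hy
    have hx : ¬ p ∣ orderOf (1 : G) := by
      rw [orderOf_one]
      exact (Fact.out : p.Prime).one_lt.ne' ∘ Nat.dvd_one.mp
    have hy' : p ∣ orderOf ((y : G)⁻¹) := by
      rw [orderOf_inv]
      exact dvd_orderOf_of_isPGroup P hP y hy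
    have h := Helper77.weak_block_orthogonality' hM hB hx hy'
    refine Eq.trans ?_ h
    refine Finset.sum_congr rfl fun χ _ => ?_
    by_cases hχ : χ ∈ B
    · rw [if_pos hχ, if_pos hχ,
        Cfsg.Agent.Helper80.isCharacter_inv (Cfsg.Agent.Helper80.isCharacter_of_irr χ.2),
        Complex.conj_conj]
    · rw [if_neg hχ, if_neg hχ]
  have h1 : ∀ χ : IrrCharacter G, (if χ ∈ B then (χ : G → ℂ) 1 *
        classInner (fun y : P => (χ : G → ℂ) y) (fun y : P => ((μ y : ℂˣ) : ℂ)) else 0)
      = (Nat.card P : ℂ)⁻¹ * ∑ y : P, conj ((μ y : ℂˣ) : ℂ) *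
          (if χ ∈ B then (χ : G → ℂ) 1 * (χ : G → ℂ) y else 0) := by
    intro χ
    by_cases hχ : χ ∈ B
    · simp only [if_pos hχ]
      unfold classInner
      rw [Finset.mul_sum, Finset.mul_sum, Finset.mul_sum]
      refine Finset.sum_congr rfl fun y _ => ?_
      ring
    · simp only [if_neg hχ, mul_zero, Finset.sum_const_zero]
  simp only [h1]
  rw [← Finset.mul_sum, Finset.sum_comm]
  congr 1
  rw [Finset.sum_eq_single (1 : P)]
  · rw [← Finset.mul_sum, map_one, Units.val_one, map_one, one_mul]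
    rfl
  · intro y _ hy
    rw [← Finset.mul_sum, hw y hy, mul_zero]
  · intro h
    exact absurd (Finset.mem_univ _) h

/-- The multiplicity of a homomorphism `μ` of `P` in the restriction of a linear character. -/
theorem classInner_homIrr_restrict (P : Subgroup G) [Fintype P] (f : G →* ℂˣ)
    (μ : P →* ℂˣ) [Decidable (∀ y : P, f y = μ y)] :
    classInner (fun y : P => (homIrr f : G → ℂ) y) (fun y : P => ((μ y : ℂˣ) : ℂ))
      = if (∀ y : P, f y = μ y) then 1 else 0 := by
  classical
  unfold classInner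
  have h := hom_orthogonality (f.comp P.subtype) μ
  have hP : (Nat.card P : ℂ) ≠ 0 := by exact_mod_cast Nat.card_pos.ne'
  have e : (∑ y : P, (homIrr f : G → ℂ) y * conj ((μ y : ℂˣ) : ℂ))
      = ∑ y : P, (((f.comp P.subtype) y : ℂˣ) : ℂ) * conj ((μ y : ℂˣ) : ℂ) := rfl
  rw [e, h]
  by_cases hc : ∀ y : P, f y = μ y
  · have hc' : f.comp P.subtype = μ := MonoidHom.ext hc
    rw [if_pos hc, if_pos hc', ← Nat.card_eq_fintype_card, inv_mul_cancel₀ hP]
  · have hc' : ¬ f.comp P.subtype = μ := fun h' => hc (fun y => by rw [← h']; rfl)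
    rw [if_neg hc, if_neg hc', mul_zero]

/-- The number of linear characters of a block restricting to `μ` on the `p`-subgroup `P`,
modulo `p`, when all nonlinear characters of the block have degree divisible by `p`. -/
theorem card_block_linear_restrict_eq [Fintype G] [Fintype (IrrCharacter G)] {p : ℕ}
    [Fact p.Prime] {M : Ideal AlgInt} (hM : IsPModular p M) {B : Set (IrrCharacter G)}
    (hB : IsPBlock M B) [DecidablePred (fun χ => χ ∈ B)] (P : Subgroup G) [Fintype P]
    (hP : IsPGroup p P)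
    (hdeg : ∀ χ ∈ B, charDegree (χ : G → ℂ) ≠ 1 → p ∣ charDegree (χ : G → ℂ))
    (μ : P →* ℂˣ) :
    ∃ A : ℕ, (A : ℂ) = (Nat.card P : ℂ)⁻¹ * ∑ χ : IrrCharacter G,
          (if χ ∈ B then (χ : G → ℂ) 1 * (χ : G → ℂ) 1 else 0) ∧
      ((Nat.card {χ : IrrCharacter G // χ ∈ B ∧ charDegree (χ : G → ℂ) = 1 ∧
          ∀ y : P, (χ : G → ℂ) y = ((μ y : ℂˣ) : ℂ)} : ℕ) : ZMod p) = (A : ZMod p) := by
  classical
  have hnat : ∀ χ : IrrCharacter G, ∃ n : ℕ,
      classInner (fun y : P => (χ : G → ℂ) y) (fun y : P => ((μ y : ℂˣ) : ℂ)) = (n : ℂ) :=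
    fun χ => Helper3.classInner_isCharacter_nat
      (Helper79.isCharacter_restrict (Helper79.irr_isCharacter χ) P)
      (Helper79.isCharacter_of_irr (Helper79.isIrrCharacter_of_hom μ))
  choose a ha using hnat
  refine ⟨∑ χ : IrrCharacter G, if χ ∈ B then charDegree (χ : G → ℂ) * a χ else 0, ?_, ?_⟩
  · rw [← sum_block_degree_mul_classInner hM hB P hP μ, Nat.cast_sum]
    refine Finset.sum_congr rfl fun χ _ => ?_
    by_cases hχ : χ ∈ B
    · rw [if_pos hχ, if_pos hχ, Nat.cast_mul, ha χ,
        Helper79.isCharacter_one_eq_charDegree (Helper79.irr_isCharacter χ)]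
    · rw [if_neg hχ, if_neg hχ, Nat.cast_zero]
  · rw [Nat.card_eq_fintype_card, Fintype.card_subtype, Finset.card_filter, Nat.cast_sum,
      Nat.cast_sum]
    refine Finset.sum_congr rfl fun χ _ => ?_
    by_cases hχ : χ ∈ B
    · rw [if_pos hχ]
      by_cases h1 : charDegree (χ : G → ℂ) = 1
      · obtain ⟨f, rfl⟩ := exists_hom_of_linear χ h1
        have h2 := ha (homIrr f)
        rw [classInner_homIrr_restrict P f μ] at h2
        have h3 : (∀ y : P, (homIrr f : G → ℂ) y = ((μ y : ℂˣ) : ℂ)) ↔ ∀ y : P, f y = μ y := by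
          refine forall_congr' fun y => ?_
          rw [homIrr_apply]
          exact Units.val_inj
        by_cases hc : ∀ y : P, f y = μ y
        · rw [if_pos hc] at h2
          have h4 : a (homIrr f) = 1 := by exact_mod_cast h2.symm
          rw [if_pos ⟨hχ, h1, h3.mpr hc⟩, h1, h4]
        · rw [if_neg hc] at h2
          have h4 : a (homIrr f) = 0 := by exact_mod_cast h2.symm
          rw [if_neg (fun h => hc (h3.mp h.2.2)), h4, mul_zero]
      · rw [if_neg (fun h => h1 h.2.1), Nat.cast_mul,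
          (ZMod.natCast_eq_zero_iff _ _).mpr (hdeg χ hχ h1), zero_mul, Nat.cast_zero]
    · rw [if_neg hχ, if_neg (fun h => hχ h.1)]

/-- If every nonlinear character of the block `B` has degree divisible by `p`, the number of
linear characters of `B` restricting to `μ` on the `p`-subgroup `P` does not depend on `μ`
modulo `p`. -/
theorem card_block_linear_restrict_congr [Finite G] {p : ℕ} [Fact p.Prime] {M : Ideal AlgInt}
    (hM : IsPModular p M) {B : Set (IrrCharacter G)} (hB : IsPBlock M B) (P : Subgroup G)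
    (hP : IsPGroup p P)
    (hdeg : ∀ χ ∈ B, charDegree (χ : G → ℂ) ≠ 1 → p ∣ charDegree (χ : G → ℂ))
    (μ μ' : P →* ℂˣ) :
    ((Nat.card {χ : IrrCharacter G // χ ∈ B ∧ charDegree (χ : G → ℂ) = 1 ∧
          ∀ y : P, (χ : G → ℂ) y = ((μ y : ℂˣ) : ℂ)} : ℕ) : ZMod p)
      = ((Nat.card {χ : IrrCharacter G // χ ∈ B ∧ charDegree (χ : G → ℂ) = 1 ∧
          ∀ y : P, (χ : G → ℂ) y = ((μ' y : ℂˣ) : ℂ)} : ℕ) : ZMod p) := by
  classical
  have : Fintype G := Fintype.ofFinite G
  have : Fintype (IrrCharacter G) := Fintype.ofFinite _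
  have : Fintype P := Fintype.ofFinite P
  obtain ⟨A, hA, hA'⟩ := card_block_linear_restrict_eq hM hB P hP hdeg μ
  obtain ⟨A₂, hA₂, hA₂'⟩ := card_block_linear_restrict_eq hM hB P hP hdeg μ'
  have : A = A₂ := by
    have : (A : ℂ) = (A₂ : ℂ) := by rw [hA, hA₂]
    exact_mod_cast this
  rw [hA', hA₂', this]

/-- **Isaacs–Smith.** If every nonlinear irreducible character of the principal `p`-block has
degree divisible by `p`, then every homomorphism `P →* ℂˣ` of a Sylow `p`-subgroup `P`
extends to `G`. -/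
theorem exists_hom_extension_of_principal [Finite G] {p : ℕ} [Fact p.Prime] {M : Ideal AlgInt}
    (hM : IsPModular p M) (P : Sylow p G)
    (hdeg : ∀ χ ∈ principalBlock M G, charDegree (χ : G → ℂ) ≠ 1 →
      p ∣ charDegree (χ : G → ℂ))
    (μ : (P : Subgroup G) →* ℂˣ) : ∃ f : G →* ℂˣ, ∀ y : (P : Subgroup G), f (y : G) = μ y := by
  classical
  have hB := Helper77.principalBlock_isPBlock (G := G) M
  have hcong := card_block_linear_restrict_congr hM hB (P : Subgroup G) P.2 hdeg μ 1
  -- the count for the trivial homomorphism is the order of `principalLin`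
  have e1 : Nat.card {χ : IrrCharacter G // χ ∈ principalBlock M G ∧
        charDegree (χ : G → ℂ) = 1 ∧
        ∀ y : (P : Subgroup G), (χ : G → ℂ) y = (((1 : (P : Subgroup G) →* ℂˣ) y : ℂˣ) : ℂ)}
      = Nat.card (principalLin M hM.2.1 (P : Subgroup G)) := by
    symm
    apply Nat.card_congr
    refine Equiv.ofBijective (fun f => ⟨homIrr f.1, f.2.1, charDegree_homIrr f.1, fun y => ?_⟩)
      ⟨?_, ?_⟩
    · rw [homIrr_apply, f.2.2 y y.2]
      rfl
    · intro f f' h
      exact Subtype.ext (homIrr_injective (congrArg Subtype.val h))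
    · rintro ⟨χ, hχ, h1, h2⟩
      obtain ⟨f, hf⟩ := exists_hom_of_linear χ h1
      refine ⟨⟨f, ?_, ?_⟩, Subtype.ext hf⟩
      · rw [hf]; exact hχ
      · intro y hy
        have := h2 ⟨y, hy⟩
        rw [← hf, homIrr_apply] at this
        exact Units.ext this
  have hnd := card_principalLin_not_dvd M hM.2.1 (P : Subgroup G) P.not_dvd_index
  rw [e1] at hcong
  have hne : Nat.card {χ : IrrCharacter G // χ ∈ principalBlock M G ∧
        charDegree (χ : G → ℂ) = 1 ∧
        ∀ y : (P : Subgroup G), (χ : G → ℂ) y = ((μ y : ℂˣ) : ℂ)} ≠ 0 := by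
    intro h0
    rw [h0, Nat.cast_zero] at hcong
    exact hnd ((ZMod.natCast_eq_zero_iff _ _).mp hcong.symm)
  obtain ⟨⟨χ, -, h1, h2⟩⟩ := (Nat.card_ne_zero.mp hne).1
  obtain ⟨f, hf⟩ := exists_hom_of_linear χ h1
  refine ⟨f, fun y => ?_⟩
  have := h2 y
  rw [← hf, homIrr_apply] at this
  exact Units.ext this

end Cfsg.Agent.Helper80
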