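import Mathlib
import Cfsg.Agent.Helper87.R2Defs
import Cfsg.Agent.Helper29.UniqueOrderP

/-! PIECE A1 of CALL S5289 BATCH 2 (helper87): a maximal `A`-invariant abelian subgroup of an
essential subgroup without invariant `E_{p^2}` is cyclic and not self-centralizing — helper80. -/

set_option autoImplicit false

namespace Cfsg.Agent.Helper80

open Cfsg.Agent.Helper87

/-- PIECE A1 of CALL S5289 BATCH 2. -/
theorem r2ctx_maxAb {p : ℕ} [Fact p.Prime] {G : Type*} [Group G] {A : Subgroup (MulAut G)}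
    {t : MulAut G} (h : R2Ctx p G A t) (hp : 5 ≤ p) (hII : NoInvE2 p A) :
    ∃ B Z₀ : Subgroup G, MaxAb p G A B Z₀ := by
  have hpp : p.Prime := Fact.out
  have hfin : Finite G := h.fin
  have hp2 : p ≠ 2 := by omega
  -- a maximal `A`-invariant abelian subgroup
  obtain ⟨P, hPdef⟩ : ∃ P : Subgroup G → Prop, ∀ X : Subgroup G,
      P X ↔ ((∀ α ∈ A, ∀ c ∈ X, α c ∈ X) ∧ (∀ a ∈ X, ∀ b ∈ X, a * b = b * a)) :=
    ⟨_, fun X => Iff.rfl⟩
  have hP0 : P ⊥ := by
    rw [hPdef]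
    refine ⟨?_, ?_⟩
    · intro α _ c hc
      rw [Subgroup.mem_bot] at hc ⊢
      rw [hc, map_one]
    · intro a ha b hb
      rw [Subgroup.mem_bot] at ha hb
      rw [ha, hb]
  obtain ⟨B, -, hBmax⟩ := Finite.exists_le_maximal (p := P) hP0
  have hBinv : ∀ α ∈ A, ∀ c ∈ B, α c ∈ B := ((hPdef B).1 hBmax.prop).1
  have hBcomm : ∀ a ∈ B, ∀ b ∈ B, a * b = b * a := ((hPdef B).1 hBmax.prop).2
  have hBmax' : ∀ B' : Subgroup G, (∀ α ∈ A, ∀ c ∈ B', α c ∈ B') →
      (∀ a ∈ B', ∀ b ∈ B', a * b = b * a) → B ≤ B' → B' = B := by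
    intro B' h1 h2 h3
    exact le_antisymm (hBmax.le_of_ge ((hPdef B').2 ⟨h1, h2⟩) h3) h3
  -- `G` is nontrivial
  have hnt : Nontrivial G := by
    by_contra hnt
    rw [not_nontrivial_iff_subsingleton] at hnt
    apply h.tInn
    refine ⟨1, ?_⟩
    ext g
    exact Subsingleton.elim _ _
  -- `B ≠ ⊥`
  have hBne : B ≠ ⊥ := by
    intro hB
    have hc := hBmax' (Subgroup.center G) (by
        intro α _ c hc
        rw [Subgroup.mem_center_iff] at hc ⊢
        intro g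
        have h1 := congrArg α (hc (α⁻¹ g))
        rw [map_mul, map_mul, MulAut.apply_inv_self] at h1
        exact h1)
      (fun a _ b hb => (Subgroup.mem_center_iff.1 hb) a) (by rw [hB]; exact bot_le)
    have h2 : ⊥ < Subgroup.center G := h.pG.bot_lt_center
    rw [hc, hB] at h2
    exact lt_irrefl _ h2
  -- `Z₀ = Ω₁(B)`
  obtain ⟨Z₀, hZ₀mem⟩ : ∃ Z₀ : Subgroup G, ∀ c : G, c ∈ Z₀ ↔ c ∈ B ∧ c ^ p = 1 :=
    ⟨{ carrier := {c | c ∈ B ∧ c ^ p = 1}
       mul_mem' := by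
         rintro a b ⟨ha, hap⟩ ⟨hb, hbp⟩
         refine ⟨B.mul_mem ha hb, ?_⟩
         have hc : Commute a b := hBcomm a ha b hb
         rw [hc.mul_pow, hap, hbp, one_mul]
       one_mem' := ⟨B.one_mem, one_pow p⟩
       inv_mem' := by
         rintro a ⟨ha, hap⟩
         exact ⟨B.inv_mem ha, by rw [inv_pow, hap, inv_one]⟩ }, fun c => Iff.rfl⟩
  have hZ₀inv : ∀ α ∈ A, ∀ c ∈ Z₀, α c ∈ Z₀ := by
    intro α hα c hc
    rw [hZ₀mem] at hc ⊢
    exact ⟨hBinv α hα c hc.1, by rw [← map_pow, hc.2, map_one]⟩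
  have hZ₀comm : ∀ a ∈ Z₀, ∀ b ∈ Z₀, a * b = b * a :=
    fun a ha b hb => hBcomm a ((hZ₀mem a).1 ha).1 b ((hZ₀mem b).1 hb).1
  have hZ₀exp : ∀ a ∈ Z₀, a ^ p = 1 := fun a ha => ((hZ₀mem a).1 ha).2
  have hZ₀le : Nat.card Z₀ ≤ p ^ 2 := h.rank Z₀ hZ₀comm hZ₀exp
  have hZ₀ne2 : Nat.card Z₀ ≠ p ^ 2 := fun hc => hII ⟨Z₀, hZ₀inv, hZ₀comm, hZ₀exp, hc⟩
  have hZ₀ne1 : Nat.card Z₀ ≠ 1 := by
    intro hc
    have hBp : IsPGroup p B := h.pG.to_subgroup B
    have hBcard : Nat.card B ≠ 1 := fun h1 => hBne (Subgroup.card_eq_one.1 h1)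
    have hdvd : p ∣ Nat.card B := (hBp.card_eq_or_dvd).resolve_left hBcard
    obtain ⟨b, hb⟩ := exists_prime_orderOf_dvd_card' p hdvd
    have hbp : ((b : B) : G) ^ p = 1 := by
      have h1 : b ^ p = 1 := by rw [← hb]; exact pow_orderOf_eq_one b
      have h2 := congrArg Subtype.val h1
      rw [Subgroup.coe_pow] at h2
      exact h2
    have hbZ : (b : G) ∈ Z₀ := (hZ₀mem _).2 ⟨b.2, hbp⟩
    have hZbot : Z₀ = ⊥ := Subgroup.card_eq_one.1 hc
    rw [hZbot, Subgroup.mem_bot] at hbZ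
    have hb1 : b = 1 := Subtype.ext hbZ
    rw [hb1, orderOf_one] at hb
    exact hpp.one_lt.ne hb
  have hZ₀card : Nat.card Z₀ = p := by
    obtain ⟨k, hk⟩ := (IsPGroup.iff_card).1 (h.pG.to_subgroup Z₀)
    rw [hk] at hZ₀le hZ₀ne2 hZ₀ne1 ⊢
    have hk2 : k ≤ 2 := (Nat.pow_le_pow_iff_right hpp.one_lt).1 hZ₀le
    interval_cases k
    · exact absurd (pow_zero p) hZ₀ne1
    · exact pow_one p
    · exact absurd rfl hZ₀ne2
  -- `B` is cyclic
  have hcyc : IsCyclic B := by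
    obtain ⟨nB, hnB⟩ := (IsPGroup.iff_card).1 (h.pG.to_subgroup B)
    apply Helper29.isCyclic_of_unique_subgroup_odd hp2 nB hnB
    have key : ∀ H : Subgroup B, Nat.card H = p → H.map B.subtype = Z₀ := by
      intro H hH
      have hle : H.map B.subtype ≤ Z₀ := by
        rintro _ ⟨x, hx, rfl⟩
        rw [hZ₀mem]
        refine ⟨x.2, ?_⟩
        have h1 : (⟨x, hx⟩ : H) ^ p = 1 := by rw [← hH]; exact pow_card_eq_one'
        have h2 : x ^ p = 1 := by
          have := congrArg Subtype.val h1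
          rw [Subgroup.coe_pow] at this
          exact this
        have h3 := congrArg Subtype.val h2
        rw [Subgroup.coe_pow] at h3
        exact h3
      apply Subgroup.eq_of_le_of_card_ge hle
      rw [hZ₀card, Subgroup.card_map_of_injective B.subtype_injective, hH]
    intro H K hH hK
    exact Subgroup.map_injective B.subtype_injective ((key H hH).trans (key K hK).symm)
  obtain ⟨g₀, hg₀⟩ := IsCyclic.exists_monoid_generator (α := B)
  have hcyc' : ∀ c ∈ B, ∃ k : ℕ, c = (g₀ : G) ^ k := by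
    intro c hc
    obtain ⟨k, hk⟩ := (Submonoid.mem_powers_iff _ _).1 (hg₀ ⟨c, hc⟩)
    refine ⟨k, ?_⟩
    have h1 := congrArg Subtype.val hk
    rw [Subgroup.coe_pow] at h1
    exact h1.symm
  -- automorphisms in `A` commute on `B`
  have hcommA : ∀ α ∈ A, ∀ β ∈ A, ∀ c ∈ B, α (β c) = β (α c) := by
    intro α hα β hβ c hc
    obtain ⟨a, ha⟩ := hcyc' (α g₀) (hBinv α hα g₀ g₀.2)
    obtain ⟨b, hb⟩ := hcyc' (β g₀) (hBinv β hβ g₀ g₀.2)
    obtain ⟨k, hk⟩ := hcyc' c hc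
    have e1 : α (β (g₀ : G)) = β (α (g₀ : G)) := by
      rw [hb, ha, map_pow, map_pow, ha, hb, ← pow_mul, ← pow_mul, mul_comm]
    rw [hk, map_pow, map_pow, map_pow, map_pow, e1]
  have hmulpow : ∀ α ∈ A, ∀ β ∈ A, ∀ n : ℕ, ∀ c ∈ B,
      ((α * β) ^ n) c = (α ^ n) ((β ^ n) c) := by
    intro α hα β hβ n
    induction n with
    | zero => intro c _; simp
    | succ n ih =>
      intro c hc
      rw [pow_succ, MulAut.mul_apply, MulAut.mul_apply,
        ih _ (hBinv α hα _ (hBinv β hβ c hc)),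
        hcommA (β ^ n) (A.pow_mem hβ n) α hα (β c) (hBinv β hβ c hc),
        pow_succ, pow_succ, MulAut.mul_apply, MulAut.mul_apply]
  have hfixpow : ∀ (α : MulAut G) (m n : ℕ), (∀ c ∈ B, (α ^ m) c = c) →
      ∀ c ∈ B, (α ^ (m * n)) c = c := by
    intro α m n hm c hc
    rw [pow_mul]
    induction n with
    | zero => simp
    | succ n ih => rw [pow_succ, MulAut.mul_apply, hm c hc, ih]
  -- `B` is not self-centralizing
  have hnsc : ∃ g : G, g ∉ B ∧ ∀ c ∈ B, g * c = c * g := by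
    by_contra hcon
    have hself : ∀ g : G, (∀ c ∈ B, g * c = c * g) → g ∈ B := by
      intro g hg
      by_contra hgB
      exact hcon ⟨g, hgB, hg⟩
    obtain ⟨N, hN⟩ := (IsPGroup.iff_card).1 h.pG
    have hBnormal : ∀ e : G, ∀ b ∈ B, e * b * e⁻¹ ∈ B := by
      intro e b hb
      have h1 := hBinv (MulAut.conj e) (h.inn e) b hb
      rwa [MulAut.conj_apply] at h1
    obtain ⟨K', hK'mem⟩ : ∃ K' : Subgroup (MulAut G), ∀ α : MulAut G,
        α ∈ K' ↔ α ∈ A ∧ ∃ j : ℕ, ∀ c ∈ B, (α ^ p ^ j) c = c :=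
      ⟨{ carrier := {α | α ∈ A ∧ ∃ j : ℕ, ∀ c ∈ B, (α ^ p ^ j) c = c}
         mul_mem' := by
           rintro α β ⟨hα, j, hj⟩ ⟨hβ, k, hk⟩
           refine ⟨A.mul_mem hα hβ, j + k, ?_⟩
           intro c hc
           have h1 : ∀ c ∈ B, (β ^ p ^ (j + k)) c = c := by
             intro c hc
             rw [pow_add, mul_comm]
             exact hfixpow β (p ^ k) (p ^ j) hk c hc
           have h2 : ∀ c ∈ B, (α ^ p ^ (j + k)) c = c := by
             intro c hc
             rw [pow_add]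
             exact hfixpow α (p ^ j) (p ^ k) hj c hc
           rw [hmulpow α hα β hβ _ c hc, h1 c hc, h2 c hc]
         one_mem' := ⟨A.one_mem, 0, by intro c _; simp⟩
         inv_mem' := by
           rintro α ⟨hα, j, hj⟩
           refine ⟨A.inv_mem hα, j, ?_⟩
           intro c hc
           rw [inv_pow]
           calc (α ^ p ^ j)⁻¹ c = (α ^ p ^ j)⁻¹ ((α ^ p ^ j) c) := by rw [hj c hc]
             _ = c := MulAut.inv_apply_self _ _ _ }, fun α => Iff.rfl⟩
    have hK'A : K' ≤ A := fun α hα => ((hK'mem α).1 hα).1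
    have hK'norm : ∀ g ∈ A, ∀ k ∈ K', g * k * g⁻¹ ∈ K' := by
      intro g hg k hk
      obtain ⟨hkA, j, hj⟩ := (hK'mem k).1 hk
      rw [hK'mem]
      refine ⟨A.mul_mem (A.mul_mem hg hkA) (A.inv_mem hg), j, ?_⟩
      intro c hc
      rw [conj_pow, MulAut.mul_apply, MulAut.mul_apply,
        hj _ (hBinv g⁻¹ (A.inv_mem hg) c hc), MulAut.apply_inv_self]
    have hK'p : IsPGroup p K' := by
      rintro ⟨α, hα⟩
      obtain ⟨-, j, hj⟩ := (hK'mem α).1 hα
      refine ⟨j + N, ?_⟩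
      apply Subtype.ext
      rw [Subgroup.coe_pow, Subgroup.coe_one]
      show α ^ p ^ (j + N) = 1
      have hfix1 : ∀ n : ℕ, ∀ c ∈ B, ((α ^ p ^ j) ^ n) c = c := by
        intro n c hc
        induction n with
        | zero => simp
        | succ n ih => rw [pow_succ, MulAut.mul_apply, hj c hc, ih]
      have hall : ∀ e : G, ((α ^ p ^ j) ^ p ^ N) e = e := by
        intro e
        have hcB : e⁻¹ * (α ^ p ^ j) e ∈ B := by
          apply hself
          intro b hb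
          have h1 : (α ^ p ^ j) e * b = (e * b * e⁻¹) * (α ^ p ^ j) e := by
            have h2 : (α ^ p ^ j) (e * b) = (α ^ p ^ j) ((e * b * e⁻¹) * e) := by
              congr 1; group
            rw [map_mul, map_mul, hj b hb, hj _ (hBnormal e b hb)] at h2
            exact h2
          calc e⁻¹ * (α ^ p ^ j) e * b = e⁻¹ * ((α ^ p ^ j) e * b) := by group
            _ = e⁻¹ * ((e * b * e⁻¹) * (α ^ p ^ j) e) := by rw [h1]
            _ = b * (e⁻¹ * (α ^ p ^ j) e) := by group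
        obtain ⟨c, hcB', hce⟩ : ∃ c ∈ B, (α ^ p ^ j) e = e * c :=
          ⟨e⁻¹ * (α ^ p ^ j) e, hcB, by group⟩
        have hpowe : ∀ n : ℕ, ((α ^ p ^ j) ^ n) e = e * c ^ n := by
          intro n
          induction n with
          | zero => simp
          | succ n ih =>
            rw [pow_succ, MulAut.mul_apply, hce, map_mul, ih, hfix1 n c hcB', pow_succ, mul_assoc]
        rw [hpowe, ← hN, pow_card_eq_one', mul_one]
      have h1 : (α ^ p ^ j) ^ p ^ N = 1 := by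
        ext e
        rw [hall e]
        rfl
      rw [pow_add, pow_mul]
      exact h1
    have hKInn := h.rad K' hK'A hK'p hK'norm
    apply h.tInn
    apply hKInn
    rw [hK'mem]
    refine ⟨h.tA, ?_⟩
    obtain ⟨e₀, he₀⟩ := h.tpow
    refine ⟨1 + N, ?_⟩
    intro c _
    rw [pow_add, pow_one, pow_mul, he₀, ← map_pow, ← hN, pow_card_eq_one', map_one]
    rfl
  exact ⟨B, Z₀, ⟨hBinv, hBcomm, hBmax', ⟨g₀, g₀.2, hcyc'⟩, hZ₀mem, hZ₀card, hnsc⟩⟩

end Cfsg.Agent.Helper80
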