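import Mathlib
import Cfsg.Agent.Helper80.Ree2358LA0

/-!
# PIECE LA2 of CALL S1158 (helper6): a power `A ^ k` conjugate to `A` is a Frobenius power
(helper80)
-/

set_option autoImplicit false

namespace Cfsg.Agent.Helper80

open Matrix

/-- Frobenius twists of eigenvectors of a matrix with entries in the finite field `K`. -/
theorem ree1158_frob_eigen {K : Type*} [Field K] [Fintype K] (A : Matrix (Fin 7) (Fin 7) K)
    (k : ℕ) (v : Fin 7 → AlgebraicClosure K) (μ : AlgebraicClosure K)
    (hv : (A.map (algebraMap K (AlgebraicClosure K))).mulVec v = μ • v) :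
    (A.map (algebraMap K (AlgebraicClosure K))).mulVec (fun i => v i ^ Fintype.card K ^ k) =
      μ ^ Fintype.card K ^ k • (fun i => v i ^ Fintype.card K ^ k) := by
  classical
  obtain ⟨n, hℓ, hq⟩ := FiniteField.card K (ringChar K)
  have : CharP (AlgebraicClosure K) (ringChar K) :=
    charP_of_injective_algebraMap (algebraMap K (AlgebraicClosure K)).injective _
  have : ExpChar (AlgebraicClosure K) (ringChar K) := ExpChar.prime hℓ
  set AL : Matrix (Fin 7) (Fin 7) (AlgebraicClosure K) :=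
    A.map (algebraMap K (AlgebraicClosure K)) with hAL
  let φ : AlgebraicClosure K →+* AlgebraicClosure K :=
    iterateFrobenius (AlgebraicClosure K) (ringChar K) ((n : ℕ) * k)
  have hφ : ∀ x, φ x = x ^ Fintype.card K ^ k := by
    intro x
    show iterateFrobenius (AlgebraicClosure K) (ringChar K) ((n : ℕ) * k) x = _
    rw [iterateFrobenius_def, pow_mul, ← hq]
  have hAφ : AL.map φ = AL := by
    ext i j
    rw [Matrix.map_apply, hφ, hAL, Matrix.map_apply, ← map_pow, FiniteField.pow_card_pow]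
  funext i
  have h1 := RingHom.map_mulVec φ AL v i
  rw [hAφ, hv] at h1
  have h2 : (φ ∘ v) = fun i => v i ^ Fintype.card K ^ k := by
    funext j
    exact hφ (v j)
  rw [h2] at h1
  rw [← h1, Pi.smul_apply, Pi.smul_apply, smul_eq_mul, smul_eq_mul, map_mul, hφ, hφ]

/-- PIECE LA2 of CALL S1158. -/
theorem conj_pow_of_order_six {K : Type*} [Field K] [Fintype K] {p : ℕ} (hp : p.Prime)
    (hpK : ¬ p ∣ Fintype.card K)
    (hord : ∀ k : ℕ, 0 < k → k < 6 → ¬ p ∣ Fintype.card K ^ k - 1)
    (h6 : p ∣ Fintype.card K ^ 6 - 1)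
    (A : GL (Fin 7) K) (hA : A ^ p = 1) (hA1 : A ≠ 1) (N : GL (Fin 7) K) (k : ℕ)
    (hN : N * A * N⁻¹ = A ^ k) : ∃ i : ℕ, i < 6 ∧ A ^ k = A ^ (Fintype.card K ^ i) := by
  classical
  have : Fact p.Prime := ⟨hp⟩
  have hAm : (A : Matrix (Fin 7) (Fin 7) K) ^ p = 1 := by
    rw [← Units.val_pow_eq_pow_val, hA]
    rfl
  have hAm1 : (A : Matrix (Fin 7) (Fin 7) K) ≠ 1 := by
    intro h
    exact hA1 (Units.ext h)
  obtain ⟨lam, v₀, v₁, hlamp, hlam1, hAv₀, hAv₁, hli⟩ :=
    exists_frobenius_eigenbasis hp hpK hord h6 (A : Matrix (Fin 7) (Fin 7) K) hAm hAm1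
  set AL : Matrix (Fin 7) (Fin 7) (AlgebraicClosure K) :=
    (A : Matrix (Fin 7) (Fin 7) K).map (algebraMap K (AlgebraicClosure K)) with hAL
  set w : Fin 7 → (Fin 7 → AlgebraicClosure K) := fun j =>
    (Fin.cases (fun i => algebraMap K (AlgebraicClosure K) (v₀ i))
      (fun (k : Fin 6) (i : Fin 7) => v₁ i ^ (Fintype.card K ^ (k : ℕ))) j :
        Fin 7 → AlgebraicClosure K) with hw
  let μ : Fin 7 → AlgebraicClosure K :=
    Fin.cases 1 (fun k : Fin 6 => lam ^ Fintype.card K ^ (k : ℕ))
  have hev : ∀ j, AL.mulVecLin (w j) = μ j • w j := by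
    intro j
    rw [Matrix.mulVecLin_apply]
    refine Fin.cases ?_ ?_ j
    · show AL.mulVec (fun i => algebraMap K (AlgebraicClosure K) (v₀ i)) =
        (1 : AlgebraicClosure K) • (fun i => algebraMap K (AlgebraicClosure K) (v₀ i))
      rw [one_smul]
      funext i
      have h1 := RingHom.map_mulVec (algebraMap K (AlgebraicClosure K))
        (A : Matrix (Fin 7) (Fin 7) K) v₀ i
      rw [hAv₀] at h1
      exact h1.symm
    · intro j
      exact ree1158_frob_eigen _ j v₁ lam hAv₁
  have hv₁ : v₁ ≠ 0 := by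
    have h1 := hli.ne_zero (1 : Fin 7)
    intro h
    apply h1
    funext i
    show v₁ i ^ (Fintype.card K ^ ((0 : Fin 6) : ℕ)) = 0
    rw [h]
    simp
  -- the conjugation relation
  have hrel : (A : Matrix (Fin 7) (Fin 7) K) *
      ((N⁻¹ : GL (Fin 7) K) : Matrix (Fin 7) (Fin 7) K) =
      ((N⁻¹ : GL (Fin 7) K) : Matrix (Fin 7) (Fin 7) K) *
        (A : Matrix (Fin 7) (Fin 7) K) ^ k := by
    have h1 : A * N⁻¹ = N⁻¹ * A ^ k := by
      rw [← hN]
      group
    have h2 := congrArg (fun g : GL (Fin 7) K => (g : Matrix (Fin 7) (Fin 7) K)) h1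
    simpa using h2
  set NiL : Matrix (Fin 7) (Fin 7) (AlgebraicClosure K) :=
    ((N⁻¹ : GL (Fin 7) K) : Matrix (Fin 7) (Fin 7) K).map
      (algebraMap K (AlgebraicClosure K)) with hNiL
  set NL : Matrix (Fin 7) (Fin 7) (AlgebraicClosure K) :=
    (N : Matrix (Fin 7) (Fin 7) K).map (algebraMap K (AlgebraicClosure K)) with hNL
  have hmapmul : ∀ X Y : Matrix (Fin 7) (Fin 7) K,
      (X * Y).map (algebraMap K (AlgebraicClosure K)) =
        X.map (algebraMap K (AlgebraicClosure K)) * Y.map (algebraMap K (AlgebraicClosure K)) :=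
    fun X Y => Matrix.map_mul
  have hmappow : ∀ (X : Matrix (Fin 7) (Fin 7) K) (n : ℕ),
      (X ^ n).map (algebraMap K (AlgebraicClosure K)) =
        (X.map (algebraMap K (AlgebraicClosure K))) ^ n :=
    fun X n => map_pow (algebraMap K (AlgebraicClosure K)).mapMatrix X n
  have hNN : NL * NiL = 1 := by
    rw [hNL, hNiL, ← hmapmul, ← Units.val_mul, mul_inv_cancel, Units.val_one]
    exact map_one (algebraMap K (AlgebraicClosure K)).mapMatrix
  have hrelL : AL * NiL = NiL * AL ^ k := by
    rw [hAL, hNiL, ← hmapmul, hrel, hmapmul, hmappow]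
  set u : Fin 7 → AlgebraicClosure K := NiL.mulVec v₁ with hu
  have hu0 : u ≠ 0 := by
    intro h
    apply hv₁
    have h1 : NL.mulVec u = v₁ := by
      rw [hu, Matrix.mulVec_mulVec, hNN, Matrix.one_mulVec]
    rw [← h1, h, Matrix.mulVec_zero]
  have hpowv : ∀ n : ℕ, (AL ^ n).mulVec v₁ = lam ^ n • v₁ := by
    intro n
    induction n with
    | zero => simp
    | succ n ih =>
      rw [pow_succ, ← Matrix.mulVec_mulVec, hAv₁, Matrix.mulVec_smul, ih, smul_smul, pow_succ,
        mul_comm]
  have hAu : AL.mulVecLin u = lam ^ k • u := by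
    rw [Matrix.mulVecLin_apply, hu, Matrix.mulVec_mulVec, hrelL, ← Matrix.mulVec_mulVec, hpowv,
      Matrix.mulVec_smul]
  -- expand `u` in the eigenbasis
  have hspan : Submodule.span (AlgebraicClosure K) (Set.range w) = ⊤ :=
    hli.span_eq_top_of_card_eq_finrank' (by simp)
  obtain ⟨c, hc⟩ : ∃ c : Fin 7 → AlgebraicClosure K, ∑ j, c j • w j = u := by
    have h1 : u ∈ Submodule.span (AlgebraicClosure K) (Set.range w) := by
      rw [hspan]
      trivial
    exact (Submodule.mem_span_range_iff_exists_fun _).mp h1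
  have hzero : ∑ j, (c j * (μ j - lam ^ k)) • w j = 0 := by
    have h1 : AL.mulVecLin u = ∑ j, (c j * μ j) • w j := by
      rw [← hc, map_sum]
      apply Finset.sum_congr rfl
      intro j _
      rw [map_smul, hev j, smul_smul]
    have h2 : lam ^ k • u = ∑ j, (c j * lam ^ k) • w j := by
      rw [← hc, Finset.smul_sum]
      apply Finset.sum_congr rfl
      intro j _
      rw [smul_smul, mul_comm]
    have h3 : ∑ j, (c j * (μ j - lam ^ k)) • w j =
        ∑ j, (c j * μ j) • w j - ∑ j, (c j * lam ^ k) • w j := by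
      rw [← Finset.sum_sub_distrib]
      apply Finset.sum_congr rfl
      intro j _
      rw [mul_sub, sub_smul]
    rw [h3, ← h1, ← h2, hAu, sub_self]
  have hcoef := (Fintype.linearIndependent_iff.mp hli) _ hzero
  obtain ⟨j, hj⟩ : ∃ j, c j ≠ 0 := by
    by_contra hall
    push Not at hall
    apply hu0
    rw [← hc]
    simp [hall]
  have hμj : μ j = lam ^ k := by
    rcases mul_eq_zero.mp (hcoef j) with h | h
    · exact absurd h hj
    · exact sub_eq_zero.mp h
  have hlamord : orderOf lam = p := orderOf_eq_prime hlamp hlam1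
  have hAord : orderOf A = p := orderOf_eq_prime hA hA1
  have hlam0 : lam ≠ 0 := by
    intro h
    rw [h, zero_pow hp.ne_zero] at hlamp
    exact zero_ne_one hlamp
  rcases Fin.eq_zero_or_eq_succ j with rfl | ⟨i, rfl⟩
  · exfalso
    have h1 : lam ^ k = 1 := hμj.symm
    have h2 : p ∣ k := by
      rw [← hlamord]
      exact orderOf_dvd_of_pow_eq_one h1
    obtain ⟨t, rfl⟩ := h2
    rw [pow_mul, hA, one_pow] at hN
    apply hA1
    have h3 : A = N⁻¹ * (N * A * N⁻¹) * N := by group
    rw [h3, hN]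
    group
  · refine ⟨(i : ℕ), i.2, ?_⟩
    have h1 : lam ^ Fintype.card K ^ (i : ℕ) = lam ^ k := hμj
    have h2 : (Units.mk0 lam hlam0) ^ Fintype.card K ^ (i : ℕ) = (Units.mk0 lam hlam0) ^ k := by
      apply Units.ext
      simpa using h1
    have h3 : orderOf (Units.mk0 lam hlam0) = p := by
      apply orderOf_eq_prime
      · apply Units.ext
        simpa using hlamp
      · intro h
        apply hlam1
        simpa using congrArg Units.val h
    have h4 := pow_eq_pow_iff_modEq.mp h2
    rw [h3] at h4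
    apply pow_eq_pow_iff_modEq.mpr
    rw [hAord]
    exact h4.symm

end Cfsg.Agent.Helper80
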