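import Mathlib
import Cfsg.Prelude.Def_Characters
import Cfsg.Prelude.Def_CharExt
import Cfsg.Prelude.Def_Transfer
import Cfsg.Agent.Helper15.DetExt
import Cfsg.Agent.Helper15.RamGen
import Cfsg.Agent.Helper47.Basic
import Cfsg.Agent.Helper80.CharOrtho
import Cfsg.Agent.Helper75.InnerLin

set_option autoImplicit false

namespace Cfsg.Agent.Helper80

open Cfsg

universe u

variable {G : Type u} [Group G]

/-- Weighted fixed point congruence for a `p`-group acting through a bare function. -/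
theorem sum_modEq_sum_fixed {P X : Type*} [Group P] [Finite P] [Fintype X] {p : ℕ}
    [hp : Fact p.Prime] (hP : IsPGroup p P) (act : P → X → X) (h1 : ∀ x, act 1 x = x)
    (hmul : ∀ g h x, act (g * h) x = act g (act h x)) (f : X → ℕ)
    (hf : ∀ g x, f (act g x) = f x) [DecidablePred fun x : X => ∀ g, act g x = x] :
    (∑ x, f x) ≡ (∑ x, if (∀ g, act g x = x) then f x else 0) [MOD p] := by
  classical
  have key : ∀ c : ℕ, Nat.card {x : X // f x = c} ≡
      Nat.card {x : X // f x = c ∧ ∀ g, act g x = x} [MOD p] := by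
    intro c
    letI : MulAction P {x : X // f x = c} :=
      { smul := fun g x => ⟨act g x.1, (hf g x.1).trans x.2⟩
        one_smul := fun x => Subtype.ext (h1 x.1)
        mul_smul := fun g h x => Subtype.ext (hmul g h x.1) }
    have h2 := hP.card_modEq_card_fixedPoints {x : X // f x = c}
    have e : MulAction.fixedPoints P {x : X // f x = c} ≃
        {x : X // f x = c ∧ ∀ g, act g x = x} :=
      { toFun := fun y => ⟨y.1.1, y.1.2, fun g => congrArg Subtype.val (y.2 g)⟩
        invFun := fun y => ⟨⟨y.1, y.2.1⟩, fun g => Subtype.ext (y.2.2 g)⟩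
        left_inv := fun y => rfl
        right_inv := fun y => rfl }
    rw [Nat.card_congr e] at h2
    exact h2
  have hL : ∑ x, f x = ∑ c ∈ Finset.univ.image f, c * Nat.card {x : X // f x = c} := by
    rw [← Finset.sum_fiberwise_of_maps_to (s := Finset.univ) (t := Finset.univ.image f) (g := f)
      (fun x _ => Finset.mem_image_of_mem f (Finset.mem_univ x))]
    apply Finset.sum_congr rfl
    intro c _
    rw [Finset.sum_congr rfl (fun x hx => (Finset.mem_filter.mp hx).2), Finset.sum_const,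
      smul_eq_mul, mul_comm, Nat.card_eq_fintype_card, Fintype.card_subtype]
  have hR : (∑ x, if (∀ g, act g x = x) then f x else 0) =
      ∑ c ∈ Finset.univ.image f, c * Nat.card {x : X // f x = c ∧ ∀ g, act g x = x} := by
    rw [← Finset.sum_fiberwise_of_maps_to (s := Finset.univ) (t := Finset.univ.image f) (g := f)
      (fun x _ => Finset.mem_image_of_mem f (Finset.mem_univ x))]
    apply Finset.sum_congr rfl
    intro c _
    rw [Finset.sum_congr rfl (fun x hx => by rw [(Finset.mem_filter.mp hx).2] :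
      ∀ x ∈ Finset.univ.filter (fun x => f x = c),
        (if (∀ g, act g x = x) then f x else 0) = if (∀ g, act g x = x) then c else 0),
      ← Finset.sum_filter, Finset.sum_const, smul_eq_mul, mul_comm, Nat.card_eq_fintype_card,
      Fintype.card_subtype, Finset.filter_filter]
  rw [hL, hR]
  exact Nat.ModEq.sum (fun c _ => (key c).mul_left c)

/-- A character with an irreducible constituent of the same degree is that constituent. -/
theorem eq_of_constituent_of_degree_eq [Fintype G] {Φ ϑ : G → ℂ} (hΦ : IsCharacter G Φ)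
    (hϑ : IsIrrCharacter G ϑ) (hcon : classInner Φ ϑ ≠ 0) (hdeg : Φ 1 = ϑ 1) : Φ = ϑ := by
  classical
  letI : Fintype (IrrCharacter G) := Fintype.ofFinite _
  obtain ⟨m, hm⟩ := Cfsg.Agent.Helper75.exists_nat_mult hΦ
  have hsum := Cfsg.Agent.Helper75.character_eq_sum_irr hΦ
  have h1 : (charDegree ϑ : ℂ) = ((∑ χ : IrrCharacter G, m χ * charDegree (χ : G → ℂ) : ℕ) : ℂ) := by
    rw [← Cfsg.Agent.Helper79.isCharacter_one_eq_charDegree (isCharacter_of_irr hϑ), ← hdeg]
    conv_lhs => rw [hsum]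
    rw [Finset.sum_apply, Nat.cast_sum]
    apply Finset.sum_congr rfl
    intro χ _
    rw [Pi.smul_apply, smul_eq_mul, hm χ,
      Cfsg.Agent.Helper79.isCharacter_one_eq_charDegree (isCharacter_of_irr χ.2), Nat.cast_mul]
  have h2 : charDegree ϑ = ∑ χ : IrrCharacter G, m χ * charDegree (χ : G → ℂ) := by
    exact_mod_cast h1
  have hm0 : m ⟨ϑ, hϑ⟩ ≠ 0 := by
    intro h0
    apply hcon
    have := hm ⟨ϑ, hϑ⟩
    rw [h0] at this
    simpa using this
  have hpos : 0 < charDegree ϑ := irr_degree_pos ⟨ϑ, hϑ⟩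
  rw [← Finset.add_sum_erase Finset.univ _ (Finset.mem_univ (⟨ϑ, hϑ⟩ : IrrCharacter G))] at h2
  have h3 : m ⟨ϑ, hϑ⟩ = 1 := by
    have h4 : m ⟨ϑ, hϑ⟩ * charDegree ϑ ≤ 1 * charDegree ϑ := by
      rw [one_mul]
      calc m ⟨ϑ, hϑ⟩ * charDegree ϑ ≤ _ := Nat.le_add_right _ _
        _ = charDegree ϑ := h2.symm
    have := Nat.le_of_mul_le_mul_right h4 hpos
    omega
  have h5 : ∑ χ ∈ Finset.univ.erase (⟨ϑ, hϑ⟩ : IrrCharacter G),
      m χ * charDegree (χ : G → ℂ) = 0 := by
    rw [h3, one_mul] at h2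
    have h2' : charDegree ϑ = charDegree ϑ + ∑ χ ∈ Finset.univ.erase (⟨ϑ, hϑ⟩ : IrrCharacter G),
      m χ * charDegree (χ : G → ℂ) := h2
    omega
  have h6 : ∀ χ : IrrCharacter G, χ ≠ ⟨ϑ, hϑ⟩ → m χ = 0 := by
    intro χ hχ
    have h7 := (Finset.sum_eq_zero_iff.mp h5) χ (Finset.mem_erase.mpr ⟨hχ, Finset.mem_univ _⟩)
    have h8 := irr_degree_pos χ
    rcases Nat.mul_eq_zero.mp h7 with h | h
    · exact h
    · omega
  rw [hsum, Finset.sum_eq_single (⟨ϑ, hϑ⟩ : IrrCharacter G)]
  · rw [hm, h3, Nat.cast_one, one_smul]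
  · intro χ _ hχ
    rw [hm, h6 χ hχ, Nat.cast_zero, zero_smul]
  · intro h
    exact absurd (Finset.mem_univ _) h

/-- An irreducible character of degree prime to `p` restricts irreducibly to a normal subgroup
of `p`-power index. -/
theorem restrict_irr_of_not_dvd [Finite G] {p : ℕ} [hp : Fact p.Prime] (N : Subgroup G)
    [N.Normal] {k : ℕ} (hidx : N.index = p ^ k) {χ : G → ℂ} (hχ : IsIrrCharacter G χ)
    (hd : ¬ p ∣ charDegree χ) : IsIrrCharacter N (fun n : N => χ n) := by
  classical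
  letI : Fintype G := Fintype.ofFinite G
  letI : Fintype N := Fintype.ofFinite N
  have hχc := isCharacter_of_irr hχ
  have hres := Cfsg.Agent.Helper79.isCharacter_restrict hχc N
  have hχ1 : χ 1 = (charDegree χ : ℂ) := Cfsg.Agent.Helper79.isCharacter_one_eq_charDegree hχc
  have hpos : 0 < charDegree χ := irr_degree_pos ⟨χ, hχ⟩
  have hres1 : (fun n : N => χ n) 1 ≠ 0 := by
    show χ ((1 : N) : G) ≠ 0
    rw [Subgroup.coe_one, hχ1]
    exact_mod_cast hpos.ne'
  obtain ⟨ϑ, hϑ, hcon⟩ := Cfsg.Agent.Helper75.exists_irr_constituent hres hres1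
  obtain ⟨j, hj, hjdvd⟩ := Cfsg.Agent.Helper15.degree_eq_mul_of_constituent N χ hχ ϑ hϑ hcon
  have hϑ1 : ϑ 1 = (charDegree ϑ : ℂ) :=
    Cfsg.Agent.Helper79.isCharacter_one_eq_charDegree (isCharacter_of_irr hϑ)
  have h1 : charDegree χ = j * charDegree ϑ := by
    rw [hχ1, hϑ1] at hj
    exact_mod_cast hj
  rw [hidx] at hjdvd
  obtain ⟨i, -, rfl⟩ := (Nat.dvd_prime_pow hp.out).mp hjdvd
  have hi : i = 0 := by
    by_contra hi
    apply hd
    rw [h1]
    exact Dvd.dvd.mul_right (dvd_pow_self p hi) _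
  subst hi
  rw [pow_zero, one_mul] at h1
  have h2 : (fun n : N => χ n) = ϑ := by
    apply eq_of_constituent_of_degree_eq hres hϑ hcon
    show χ ((1 : N) : G) = ϑ 1
    rw [Subgroup.coe_one, hχ1, hϑ1, h1]
  rw [h2]
  exact hϑ

/-- A homomorphism from `O^p(G)` to `ℂˣ` has order dividing the `p'`-part of `|G|`. -/
theorem hom_pow_ordCompl_eq_one [Finite G] {p : ℕ} [hp : Fact p.Prime]
    (ν : pResidual p G →* ℂˣ) (n : pResidual p G) :
    ν n ^ (Nat.card G / p ^ (Nat.card G).factorization p) = 1 := by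
  obtain ⟨m, hm⟩ : ∃ m : ℕ, m = Nat.card G / p ^ (Nat.card G).factorization p := ⟨_, rfl⟩
  rw [← hm]
  have hcard : p ^ (Nat.card G).factorization p * m = Nat.card G := by
    rw [hm]
    exact Nat.ordProj_mul_ordCompl_eq_self (Nat.card G) p
  have key : ∀ (x : G) (hx : x ∈ pResidual p G), ν ⟨x, hx⟩ ^ m = 1 := by
    intro x hx
    unfold pResidual at hx
    induction hx using Subgroup.closure_induction with
    | mem x hx =>
      have h1 : orderOf x ∣ m := by
        have h2 : orderOf x ∣ p ^ (Nat.card G).factorization p * m := by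
          rw [hcard]
          exact orderOf_dvd_natCard x
        exact (Nat.Coprime.pow_right _ hx).dvd_of_dvd_mul_left h2
      rw [← map_pow]
      have h3 : (⟨x, Subgroup.subset_closure hx⟩ : pResidual p G) ^ m = 1 := by
        apply Subtype.ext
        rw [Subgroup.coe_pow, Subgroup.coe_one]
        exact orderOf_dvd_iff_pow_eq_one.mp h1
      rw [h3, map_one]
    | one =>
      have : (⟨1, Subgroup.one_mem _⟩ : pResidual p G) = 1 := rfl
      rw [this, map_one, one_pow]
    | mul x y hx hy ihx ihy =>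
      have : (⟨x * y, Subgroup.mul_mem _ hx hy⟩ : pResidual p G) = ⟨x, hx⟩ * ⟨y, hy⟩ := rfl
      rw [this, map_mul, mul_pow, ihx, ihy, one_mul]
    | inv x hx ihx =>
      have : (⟨x⁻¹, Subgroup.inv_mem _ hx⟩ : pResidual p G) = (⟨x, hx⟩ : pResidual p G)⁻¹ := rfl
      rw [this, map_inv, inv_pow, ihx, inv_one]
  exact key n.1 n.2

/-- The index of `O^p(G)` is a power of `p`. -/
theorem pResidual_index [Finite G] (p : ℕ) [hp : Fact p.Prime] :
    ∃ k : ℕ, (pResidual p G).index = p ^ k := by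
  obtain ⟨k, hk⟩ := IsPGroup.iff_card.mp
    (Cfsg.Agent.Helper47.pResidual_quotient_isPGroup (p := p) (G := G))
  exact ⟨k, by rw [Subgroup.index_eq_card, hk]⟩

/-- A `G`-invariant irreducible character of `O^p(G)` of degree prime to `p` has an extension
to `G` whose determinantal order is prime to `p`. -/
theorem exists_irr_extension_pResidual [Finite G] {p : ℕ} [hp : Fact p.Prime]
    (ϑ : pResidual p G → ℂ) (hϑ : IsIrrCharacter (pResidual p G) ϑ)
    (hinv : ∀ (g : G) (n : pResidual p G), ϑ ⟨g * n * g⁻¹,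
      (inferInstance : (pResidual p G).Normal).conj_mem (n : G) n.2 g⟩ = ϑ n)
    (hd : ¬ p ∣ charDegree ϑ) :
    ∃ χ : G → ℂ, IsIrrCharacter G χ ∧ (∀ n : pResidual p G, χ n = ϑ n) ∧
      ¬ p ∣ detOrder χ := by
  classical
  obtain ⟨k, hk⟩ := pResidual_index (G := G) p
  have hϑc := isCharacter_of_irr hϑ
  have hϑ1 : ϑ 1 = (charDegree ϑ : ℂ) := Cfsg.Agent.Helper79.isCharacter_one_eq_charDegree hϑc
  have hcop : Nat.Coprime (pResidual p G).index (charDegree ϑ) := by
    rw [hk]
    exact Nat.Coprime.pow_left k ((Nat.Prime.coprime_iff_not_dvd hp.out).mpr hd)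
  obtain ⟨ν, hν⟩ := Cfsg.Agent.Helper15.detChar_exists_hom ϑ hϑc
  have hνinv : ∀ (g : G) (n : pResidual p G), ν ⟨g * n * g⁻¹,
      (inferInstance : (pResidual p G).Normal).conj_mem (n : G) n.2 g⟩ = ν n := by
    intro g n
    apply Units.ext
    rw [← hν, ← hν]
    exact Cfsg.Agent.Helper15.detChar_invariant (pResidual p G) ϑ hϑc hinv g n
  obtain ⟨m, hmdef⟩ : ∃ m : ℕ, m = Nat.card G / p ^ (Nat.card G).factorization p := ⟨_, rfl⟩
  have hm : ∀ n : pResidual p G, ν n ^ m = 1 := by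
    intro n
    rw [hmdef]
    exact hom_pow_ordCompl_eq_one ν n
  have hpm : ¬ p ∣ m := by
    rw [hmdef]
    exact Nat.not_dvd_ordCompl hp.out Nat.card_pos.ne'
  have hmpos : 0 < m := by
    rw [hmdef]
    exact Nat.ordCompl_pos p Nat.card_pos.ne'
  have hcopm : Nat.Coprime (pResidual p G).index m := by
    rw [hk]
    exact Nat.Coprime.pow_left k ((Nat.Prime.coprime_iff_not_dvd hp.out).mpr hpm)
  obtain ⟨F, hF⟩ := Cfsg.Agent.Helper15.exists_hom_extension_of_pow (pResidual p G) ν hνinv m hm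
    hcopm
  obtain ⟨t, ht⟩ := Nat.exists_eq_succ_of_ne_zero (Nat.totient_pos.mpr hmpos).ne'
  obtain ⟨c, hcdef⟩ : ∃ c : ℕ, c = (pResidual p G).index ^ Nat.totient m := ⟨_, rfl⟩
  have hc1 : c ≡ 1 [MOD m] := by
    rw [hcdef]
    exact Nat.ModEq.pow_totient hcopm
  have hFm : ∀ g : G, F g ^ (m * (pResidual p G).index) = 1 := by
    intro g
    have h1 := Cfsg.Agent.Helper15.hom_pow_index_eq_one (pResidual p G) (F ^ m) (fun n => by
      rw [MonoidHom.pow_apply, hF, hm]) g
    rw [MonoidHom.pow_apply, ← pow_mul] at h1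
    exact h1
  have hF'm : ∀ g : G, (F ^ c) g ^ m = 1 := by
    intro g
    rw [MonoidHom.pow_apply, ← pow_mul, hcdef, ht, pow_succ, mul_comm _ (pResidual p G).index,
      mul_assoc, mul_comm _ m, ← mul_assoc, mul_comm (pResidual p G).index m, pow_mul, hFm,
      one_pow]
  have hF'N : ∀ n : pResidual p G, ((F ^ c) (n : G) : ℂ) = detChar ϑ n := by
    intro n
    rw [hν, MonoidHom.pow_apply, hF]
    congr 1
    have h1 : orderOf (ν n) ∣ m := orderOf_dvd_of_pow_eq_one (hm n)
    have h2 : ν n ^ c = ν n ^ 1 := pow_eq_pow_iff_modEq.mpr (hc1.of_dvd h1)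
    rw [h2, pow_one]
  have hϑ' := hϑ
  obtain ⟨d, θ, hθirr, hθchar⟩ := hϑ
  have hdd : d = charDegree ϑ := by
    have h1 : ϑ 1 = (d : ℂ) := by
      rw [← hθchar, Representation.char_one]
      simp
    rw [hϑ1] at h1
    exact_mod_cast h1.symm
  have hinvθ : ∀ (g : G) (n : pResidual p G),
      θ.character (Cfsg.Agent.Helper15.conjN g n) = θ.character n := by
    intro g n
    rw [hθchar]
    exact hinv g n
  have hμ : ∀ n : pResidual p G, ((F ^ c) (n : G) : ℂ) = LinearMap.det (θ n) := by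
    intro n
    rw [hF'N, Cfsg.Agent.Helper15.detChar_of_rep θ ϑ hϑc hθchar]
  obtain ⟨ρ, hρ⟩ := Cfsg.Agent.Helper15.exists_rep_extension_of_det θ hθirr hinvθ (F ^ c) hμ
    (by rw [hdd]; exact hcop)
  have hext := Cfsg.Agent.Helper15.exists_irr_extension_of_rep θ hθirr hθchar ρ hρ
  obtain ⟨χ, hχ, hχN, hdet⟩ := Cfsg.Agent.Helper15.exists_irr_extension_det (pResidual p G) ϑ hϑ'
    (charDegree ϑ) hϑ1 hcop hext (F ^ c) hF'N
  refine ⟨χ, hχ, hχN, ?_⟩
  intro hdvd
  apply hpm
  refine dvd_trans hdvd ?_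
  unfold detOrder
  apply orderOf_dvd_of_pow_eq_one
  funext g
  rw [Pi.pow_apply, hdet, Pi.one_apply, ← Units.val_pow_eq_pow_val, hF'm, Units.val_one]

/-- Two irreducible characters of `G` with the same irreducible restriction to `O^p(G)`, of
degree prime to `p`, and with determinantal orders prime to `p`, coincide. -/
theorem irr_extension_pResidual_unique [Finite G] {p : ℕ} [hp : Fact p.Prime]
    (χ₁ χ₂ : G → ℂ) (h₁ : IsIrrCharacter G χ₁) (h₂ : IsIrrCharacter G χ₂)
    (hres : ∀ n : pResidual p G, χ₁ n = χ₂ n)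
    (hirr : IsIrrCharacter (pResidual p G) (fun n : pResidual p G => χ₁ n))
    (hd : ¬ p ∣ charDegree χ₁) (ho₁ : ¬ p ∣ detOrder χ₁) (ho₂ : ¬ p ∣ detOrder χ₂) :
    χ₁ = χ₂ := by
  classical
  obtain ⟨k, hk⟩ := pResidual_index (G := G) p
  have h₁c := isCharacter_of_irr h₁
  have h₂c := isCharacter_of_irr h₂
  have hχ1 : χ₁ 1 = (charDegree χ₁ : ℂ) := Cfsg.Agent.Helper79.isCharacter_one_eq_charDegree h₁c
  have hcop : Nat.Coprime (pResidual p G).index (charDegree χ₁) := by
    rw [hk]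
    exact Nat.Coprime.pow_left k ((Nat.Prime.coprime_iff_not_dvd hp.out).mpr hd)
  obtain ⟨ν₁, hν₁⟩ := Cfsg.Agent.Helper15.detChar_exists_hom χ₁ h₁c
  obtain ⟨ν₂, hν₂⟩ := Cfsg.Agent.Helper15.detChar_exists_hom χ₂ h₂c
  have hres' : (fun n : pResidual p G => χ₁ n) = fun n : pResidual p G => χ₂ n := funext hres
  have hN : ∀ n : pResidual p G, (ν₁ / ν₂) (n : G) = 1 := by
    intro n
    rw [MonoidHom.div_apply, div_eq_one]
    apply Units.ext
    rw [← hν₁, ← hν₂, ← Cfsg.Agent.Helper15.detChar_restrict (pResidual p G) χ₁ h₁c n,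
      ← Cfsg.Agent.Helper15.detChar_restrict (pResidual p G) χ₂ h₂c n, hres']
  have hpow : ∀ (χ : G → ℂ) (ν : G →* ℂˣ), (∀ g, detChar χ g = (ν g : ℂ)) → ∀ g : G,
      ν g ^ detOrder χ = 1 := by
    intro χ ν hν g
    apply Units.ext
    rw [Units.val_pow_eq_pow_val, ← hν, Units.val_one]
    have h1 : detChar χ ^ detOrder χ = 1 := pow_orderOf_eq_one _
    have h2 := congrFun h1 g
    rw [Pi.pow_apply, Pi.one_apply] at h2
    exact h2
  have hdet : detChar χ₁ = detChar χ₂ := by
    funext g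
    rw [hν₁, hν₂]
    congr 1
    have h1 : (ν₁ / ν₂) g ^ (pResidual p G).index = 1 :=
      Cfsg.Agent.Helper15.hom_pow_index_eq_one (pResidual p G) (ν₁ / ν₂) hN g
    have h2 : (ν₁ / ν₂) g ^ (detOrder χ₁ * detOrder χ₂) = 1 := by
      rw [MonoidHom.div_apply, div_pow, pow_mul, hpow χ₁ ν₁ hν₁ g, one_pow, mul_comm, pow_mul,
        hpow χ₂ ν₂ hν₂ g, one_pow, div_one]
    have h3 : Nat.Coprime ((pResidual p G).index) (detOrder χ₁ * detOrder χ₂) := by
      rw [hk]
      apply Nat.Coprime.pow_left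
      exact Nat.Coprime.mul_right ((Nat.Prime.coprime_iff_not_dvd hp.out).mpr ho₁)
        ((Nat.Prime.coprime_iff_not_dvd hp.out).mpr ho₂)
    have h4 := pow_gcd_eq_one.mpr ⟨h1, h2⟩
    rw [h3.gcd_eq_one, pow_one, MonoidHom.div_apply, div_eq_one] at h4
    exact h4
  exact Cfsg.Agent.Helper15.irr_extension_det_unique (pResidual p G)
    (fun n : pResidual p G => χ₁ n) hirr (charDegree χ₁)
    (by show χ₁ ((1 : pResidual p G) : G) = _; rw [Subgroup.coe_one, hχ1]) hcop χ₁ χ₂ h₁ h₂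
    (fun _ => rfl) (fun n => (hres n).symm) hdet

end Cfsg.Agent.Helper80
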