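import Mathlib
import Cfsg.Agent.Helper80.ResExt
import Cfsg.Agent.Helper75.Galois
import Cfsg.Agent.Helper75.ThirdMain

set_option autoImplicit false

namespace Cfsg.Agent.Helper80

open Cfsg

universe u

variable {G : Type u} [Group G]

/-- Two irreducible characters of `G` extending the same irreducible character of the normal
subgroup `N` differ by a homomorphism to `ℂˣ` trivial on `N`. -/
theorem exists_hom_of_extensions [Finite G] (N : Subgroup G) [hN : N.Normal] (ϑ : N → ℂ)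
    (hϑ : IsIrrCharacter N ϑ) (χ₁ χ₂ : G → ℂ) (h₁ : IsIrrCharacter G χ₁)
    (h₂ : IsIrrCharacter G χ₂) (hN₁ : ∀ n : N, χ₁ n = ϑ n) (hN₂ : ∀ n : N, χ₂ n = ϑ n) :
    ∃ b : G →* ℂˣ, (∀ n : N, b n = 1) ∧ χ₂ = fun g => (b g : ℂ) * χ₁ g := by
  classical
  cases nonempty_fintype G
  letI : Fintype N := Fintype.ofFinite N
  have h₁c := Cfsg.Agent.Helper15.isChar_of_irr h₁
  have h₂c := Cfsg.Agent.Helper15.isChar_of_irr h₂
  have h1ϑ : (fun _ : N => (1 : ℂ)) * ϑ = ϑ := by
    funext n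
    simp
  have hrec : Cfsg.classInner (Cfsg.indFun N ((fun _ : N => (1 : ℂ)) * ϑ)) χ₂ ≠ 0 := by
    rw [h1ϑ, Cfsg.Agent.Helper3.frobenius_reciprocity N ϑ χ₂
      (Cfsg.Agent.Helper15.isClassFunction_of_isChar h₂c)]
    have : (fun h : N => χ₂ h) = ϑ := funext hN₂
    rw [this, Cfsg.Agent.Helper15.irr_inner_self hϑ]
    exact one_ne_zero
  obtain ⟨β, hβ, hβN, hβχ⟩ := Cfsg.Agent.Helper15.gallagher_surj N (fun _ : N => (1 : ℂ)) ϑ
    Cfsg.Agent.Helper79.isIrrCharacter_one (fun _ _ => rfl) (by rw [h1ϑ]; exact hϑ) χ₁ h₁c hN₁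
    χ₂ h₂ hrec
  have hβker := (Cfsg.Agent.Helper15.inner_ind_one_ne_zero_iff N hβ).mp hβN
  have hd0 : ϑ 1 ≠ 0 := Cfsg.Agent.Helper3.irr_apply_one_ne_zero hϑ
  have hχ₁1 : χ₁ 1 = ϑ 1 := hN₁ 1
  have hχ₂1 : χ₂ 1 = ϑ 1 := hN₂ 1
  have hβ1 : β 1 = 1 := by
    have h3 := congrFun hβχ 1
    rw [Pi.mul_apply, hχ₁1, hχ₂1] at h3
    exact mul_right_cancel₀ hd0 (by rw [h3, one_mul])
  obtain ⟨b, hb⟩ := Cfsg.Agent.Helper15.linChar_exists_hom β
    ⟨Cfsg.Agent.Helper15.isChar_of_irr hβ, hβ1⟩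
  refine ⟨b, fun n => ?_, ?_⟩
  · apply Units.ext
    rw [← hb, hβker n n.2, hβ1, Units.val_one]
  · rw [← hβχ]
    funext g
    rw [Pi.mul_apply, hb]

/-- Twisting an extension by homomorphisms trivial on `N` is injective when the degree is prime
to the index. -/
theorem twist_injective_of_coprime [Finite G] (N : Subgroup G) [hN : N.Normal] {χ : G → ℂ}
    (hχ : IsCharacter G χ) (d : ℕ) (hd : χ 1 = d) (hcop : Nat.Coprime N.index d)
    (b b' : G →* ℂˣ) (hb : ∀ n : N, b n = 1) (hb' : ∀ n : N, b' n = 1)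
    (h : (fun g => (b g : ℂ) * χ g) = fun g => (b' g : ℂ) * χ g) : b = b' := by
  obtain ⟨ν, hν⟩ := Cfsg.Agent.Helper15.detChar_exists_hom χ hχ
  ext g
  congr 1
  have h1 := Cfsg.Agent.Helper15.detChar_twist b hχ d hd g
  have h2 := Cfsg.Agent.Helper15.detChar_twist b' hχ d hd g
  rw [h, h2, hν] at h1
  have h3 : (b' g : ℂ) ^ d = (b g : ℂ) ^ d := mul_right_cancel₀ (Units.ne_zero (ν g)) h1
  have h4 : (b / b') g ^ d = 1 := by
    rw [MonoidHom.div_apply, div_pow, div_eq_one]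
    apply Units.ext
    rw [Units.val_pow_eq_pow_val, Units.val_pow_eq_pow_val, h3]
  have h5 : (b / b') g ^ N.index = 1 :=
    Cfsg.Agent.Helper15.hom_pow_index_eq_one N (b / b') (fun n => by
      rw [MonoidHom.div_apply, hb, hb', div_one]) g
  have h6 := pow_gcd_eq_one.mpr ⟨h5, h4⟩
  rw [hcop.gcd_eq_one, pow_one, MonoidHom.div_apply, div_eq_one] at h6
  exact h6

/-- The determinantal character of a Galois twist is the Galois twist of the determinantal
character. -/
theorem detChar_pow_twist [Finite G] (k : ℕ) (hk : Nat.Coprime k (Nat.card G)) {χ : G → ℂ}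
    (hχ : IsCharacter G χ) :
    ∃ σ : ℂ ≃+* ℂ, ∀ g : G, detChar (fun g => χ (g ^ k)) g = σ (detChar χ g) := by
  obtain ⟨σ, hσ⟩ := Cfsg.Agent.Helper75.exists_ringEquiv_pow (Nat.card G) Nat.card_pos.ne' k hk
  refine ⟨σ, fun g => ?_⟩
  obtain ⟨n, ρ, rfl⟩ := hχ
  have h1 : (Cfsg.Agent.Helper75.twist σ ρ).character = fun g => ρ.character (g ^ k) := by
    funext g
    rw [Cfsg.Agent.Helper75.twist_character, Cfsg.Agent.Helper75.character_pow_eq ρ σ k hσ]
  rw [Cfsg.Agent.Helper15.detChar_of_rep (Cfsg.Agent.Helper75.twist σ ρ) _ ⟨n, _, h1⟩ h1,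
    Cfsg.Agent.Helper15.detChar_of_rep ρ _ ⟨n, ρ, rfl⟩ rfl]
  show LinearMap.det (Cfsg.Agent.Helper75.twist σ ρ g) = σ (LinearMap.det (ρ g))
  rw [Cfsg.Agent.Helper75.twist_apply, LinearMap.det_toLin', ← LinearMap.det_toMatrix' (ρ g)]
  exact ((σ : ℂ →+* ℂ).map_det (LinearMap.toMatrix' (ρ g))).symm

/-- The determinantal order of a Galois twist divides the determinantal order. -/
theorem detOrder_pow_dvd [Finite G] (k : ℕ) (hk : Nat.Coprime k (Nat.card G)) {χ : G → ℂ}
    (hχ : IsCharacter G χ) : detOrder (fun g => χ (g ^ k)) ∣ detOrder χ := by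
  obtain ⟨σ, hσ⟩ := detChar_pow_twist k hk hχ
  unfold detOrder
  apply orderOf_dvd_of_pow_eq_one
  funext g
  rw [Pi.pow_apply, hσ, ← map_pow, Pi.one_apply]
  have h1 : detChar χ ^ orderOf (detChar χ) = 1 := pow_orderOf_eq_one _
  have h2 := congrFun h1 g
  rw [Pi.pow_apply, Pi.one_apply] at h2
  rw [h2, map_one]

/-- Membership in the principal block is detected on a normal subgroup containing all
`p`-regular elements, for characters restricting irreducibly. -/
theorem mem_principalBlock_restrict_iff [Finite G] {p : ℕ} [Fact p.Prime] {M : Ideal AlgInt}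
    (hM : IsPModular p M) (N : Subgroup G) (hN : ∀ g : G, ¬ p ∣ orderOf g → g ∈ N)
    (χ : IrrCharacter G) (θ : IrrCharacter N) (hres : ∀ n : N, (χ : G → ℂ) n = (θ : N → ℂ) n) :
    χ ∈ principalBlock M G ↔ θ ∈ principalBlock M N := by
  classical
  letI : Fintype G := Fintype.ofFinite G
  letI : Fintype N := Fintype.ofFinite N
  rw [Cfsg.Agent.Helper75.mem_principalBlock_iff_omega hM χ,
    Cfsg.Agent.Helper75.mem_principalBlock_iff_omega hM θ]
  have h1 : Cfsg.Agent.Helper81.omega (χ : G → ℂ) (Cfsg.Agent.Helper75.pregInd p G) =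
      Cfsg.Agent.Helper81.omega (θ : N → ℂ) (Cfsg.Agent.Helper75.pregInd p N) := by
    unfold Cfsg.Agent.Helper81.omega
    have h2 : (χ : G → ℂ) 1 = (θ : N → ℂ) 1 := hres 1
    rw [h2]
    congr 1
    have h3 : ∑ g : G, Cfsg.Agent.Helper75.pregInd p G g * (χ : G → ℂ) g =
        ∑ g ∈ Finset.univ.filter (fun g : G => g ∈ N),
          Cfsg.Agent.Helper75.pregInd p G g * (χ : G → ℂ) g := by
      symm
      apply Finset.sum_subset (Finset.filter_subset _ _)
      intro g _ hg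
      have hgN : g ∉ N := fun h => hg (Finset.mem_filter.mpr ⟨Finset.mem_univ _, h⟩)
      have h4 : Cfsg.Agent.Helper75.pregInd p G g = 0 := by
        unfold Cfsg.Agent.Helper75.pregInd
        rw [if_neg]
        intro h5
        exact hgN (hN g h5)
      rw [h4, zero_mul]
    rw [h3, Finset.sum_subtype (Finset.univ.filter (fun g : G => g ∈ N))
      (p := fun g => g ∈ N) (fun g => by simp)]
    apply Finset.sum_congr rfl
    intro n _
    rw [hres, ← Cfsg.Agent.Helper75.pregInd_res p N]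
  rw [h1]

/-- Fibre counting. -/
theorem card_eq_mul_of_fiber {α β : Type*} [Finite α] [Finite β] (f : α → β) (c : ℕ)
    (h : ∀ b, Nat.card {a // f a = b} = c) : Nat.card α = c * Nat.card β := by
  classical
  letI : Fintype β := Fintype.ofFinite β
  rw [Nat.card_congr (Equiv.sigmaFiberEquiv f).symm, Nat.card_sigma,
    Finset.sum_congr rfl (fun b _ => h b), Finset.sum_const, Finset.card_univ, smul_eq_mul,
    Nat.card_eq_fintype_card, mul_comm]

/-- A finite cyclic group of order divisible by `p` has exactly `p` homomorphisms to `ℂˣ` of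
exponent `p`. -/
theorem card_hom_pow_eq_one_of_cyclic {C : Type*} [Group C] [Finite C] [IsCyclic C] {p : ℕ}
    (hp : p ∣ Nat.card C) : Nat.card {β : C →* ℂˣ // ∀ c, β c ^ p = 1} = p := by
  letI : CommGroup C := IsCyclic.commGroup
  obtain ⟨e⟩ := IsCyclic.monoidHom_equiv_self C ℂ
  have h1 : ∀ β : C →* ℂˣ, (∀ c, β c ^ p = 1) ↔ e β ∈ (powMonoidHom p : C →* C).ker := by
    intro β
    rw [MonoidHom.mem_ker, powMonoidHom_apply, ← map_pow, MulEquiv.map_eq_one_iff]
    constructor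
    · intro h
      ext c
      rw [MonoidHom.pow_apply, h, MonoidHom.one_apply]
    · intro h c
      rw [← MonoidHom.pow_apply, h, MonoidHom.one_apply]
  rw [Nat.card_congr (Equiv.subtypeEquiv e.toEquiv h1)]
  have h2 := IsCyclic.card_powMonoidHom_ker C p
  rw [Nat.gcd_eq_right hp] at h2
  exact h2

/-- An exponent acting as `1 + p` on `p`-elements and trivially on `p'`-elements is prime to
the group order. -/
theorem coprime_card_of_pow_conditions [Finite G] {p : ℕ} [hp : Fact p.Prime] (k : ℕ)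
    (hk₁ : ∀ g : G, (∃ j : ℕ, orderOf g = p ^ j) → g ^ k = g ^ (1 + p))
    (hk₂ : ∀ g : G, Nat.Coprime (orderOf g) p → g ^ k = g) : Nat.Coprime k (Nat.card G) := by
  apply Nat.Coprime.symm
  apply Nat.coprime_of_dvd
  intro q hq hqG hqk
  haveI : Fact q.Prime := ⟨hq⟩
  obtain ⟨g, hg⟩ := exists_prime_orderOf_dvd_card' q hqG
  have hgk : g ^ k = 1 := orderOf_dvd_iff_pow_eq_one.mp (hg ▸ hqk)
  have hg1 : g ≠ 1 := by
    intro h
    rw [h, orderOf_one] at hg
    exact hq.one_lt.ne hg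
  by_cases hqp : q = p
  · have h1 := hk₁ g ⟨1, by rw [hg, hqp, pow_one]⟩
    rw [hgk, pow_add, pow_one] at h1
    have h2 : g ^ p = 1 := by
      rw [← hqp, ← hg]
      exact pow_orderOf_eq_one g
    rw [h2, mul_one] at h1
    exact hg1 h1.symm
  · have h1 := hk₂ g (by rw [hg]; exact (Nat.coprime_primes hq hp.out).mpr hqp)
    rw [hgk] at h1
    exact hg1 h1.symm

/-- Every element is a product of an element of `O^p(G)` and an element of a given Sylow
`p`-subgroup. -/
theorem exists_mul_of_pResidual_sylow [Finite G] {p : ℕ} [Fact p.Prime] (P : Sylow p G) (g : G) :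
    ∃ n ∈ pResidual p G, ∃ x ∈ (P : Subgroup G), n * x = g := by
  have h1 : g ∈ ((pResidual p G ⊔ (P : Subgroup G) : Subgroup G) : Set G) := by
    rw [Cfsg.Agent.Helper47.pResidual_sup_sylow P]
    exact Subgroup.mem_top g
  rw [Subgroup.normal_mul] at h1
  obtain ⟨n, hn, x, hx, h⟩ := Set.mem_mul.mp h1
  exact ⟨n, hn, x, hx, h⟩

/-- A character of `O^p(G)` invariant under a Sylow `p`-subgroup is `G`-invariant. -/
theorem invariant_of_sylow_invariant [Finite G] {p : ℕ} [Fact p.Prime] (P : Sylow p G)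
    (hN : (pResidual p G).Normal) (θ : pResidual p G → ℂ) (hθ : IsCharacter (pResidual p G) θ)
    (hP : ∀ x ∈ (P : Subgroup G), ∀ n : pResidual p G,
      θ ⟨x * n * x⁻¹, hN.conj_mem n n.2 x⟩ = θ n) (g : G) (n : pResidual p G) :
    θ ⟨g * n * g⁻¹, hN.conj_mem n n.2 g⟩ = θ n := by
  obtain ⟨n₀, hn₀, x, hx, rfl⟩ := exists_mul_of_pResidual_sylow P g
  have h1 : (⟨n₀ * x * n * (n₀ * x)⁻¹, hN.conj_mem n n.2 (n₀ * x)⟩ : pResidual p G) =
      (⟨n₀, hn₀⟩ : pResidual p G) * ⟨x * n * x⁻¹, hN.conj_mem n n.2 x⟩ *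
        (⟨n₀, hn₀⟩ : pResidual p G)⁻¹ := by
    apply Subtype.ext
    simp only [Subgroup.coe_mul, Subgroup.coe_inv]
    group
  rw [h1, isCharacter_conj hθ, hP x hx]

/-- A homomorphism to `ℂˣ` trivial on `O^p(G)` sees the exponent `k` as `1 + p`. -/
theorem hom_pow_eq_of_pow_conditions [Finite G] {p : ℕ} [Fact p.Prime] (P : Sylow p G) (k : ℕ)
    (hk₁ : ∀ g : G, (∃ j : ℕ, orderOf g = p ^ j) → g ^ k = g ^ (1 + p)) (f : G →* ℂˣ)
    (hf : ∀ n : pResidual p G, f n = 1) (g : G) : f g ^ k = f g ^ (1 + p) := by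
  obtain ⟨n₀, hn₀, x, hx, rfl⟩ := exists_mul_of_pResidual_sylow P g
  have h1 : f (n₀ * x) = f x := by
    rw [map_mul, hf ⟨n₀, hn₀⟩, one_mul]
  have h2 : ∃ j : ℕ, orderOf x = p ^ j := by
    obtain ⟨j, hj⟩ := (IsPGroup.iff_orderOf.mp P.isPGroup') ⟨x, hx⟩
    exact ⟨j, by rw [← hj, Subgroup.orderOf_mk]⟩
  rw [h1, ← map_pow, hk₁ x h2, map_pow]

/-- Restriction to a subgroup does not change the degree. -/
theorem charDegree_subgroup_restrict (N : Subgroup G) (χ : G → ℂ) :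
    charDegree (fun n : N => χ n) = charDegree χ := rfl

end Cfsg.Agent.Helper80
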