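import Mathlib
import Cfsg.Agent.Helper80.ResExt2
import Cfsg.Agent.Helper80.LinChar
import Cfsg.Agent.Helper79.Abelian
import Cfsg.Agent.Helper75.CliffordCorr
import Cfsg.Agent.Helper3.MGroup
import Cfsg.Agent.Helper4.IndicatorSub
import Cfsg.Agent.S0925

set_option autoImplicit false

namespace Cfsg.Agent.Helper80

open Cfsg
open scoped ComplexConjugate

universe u

/-- A character of a finite abelian group which is unchangedby multiplication with a
homomorphism of order `p` has degree divisible by `p`. -/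
theorem dvd_charDegree_of_twist_invariant {C : Type u} [Group C] [Finite C]
    (hC : ∀ a b : C, a * b = b * a) {p : ℕ} [hp : Fact p.Prime] {Ψ : C → ℂ}
    (hΨ : IsCharacter C Ψ) (l : C →* ℂˣ) (hl1 : l ≠ 1) (hlp : l ^ p = 1)
    (hvan : ∀ c : C, Ψ c ≠ 0 → l c = 1) : p ∣ charDegree Ψ := by
  classical
  letI : Fintype C := Fintype.ofFinite C
  letI : Fintype (IrrCharacter C) := Fintype.ofFinite _
  obtain ⟨m, hm⟩ := Cfsg.Agent.Helper75.exists_nat_mult hΨ
  have hsum := Cfsg.Agent.Helper75.character_eq_sum_irr hΨ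
  have hdeg1 : ∀ μ : IrrCharacter C, (μ : C → ℂ) 1 = 1 := by
    intro μ
    rw [Cfsg.Agent.Helper79.isCharacter_one_eq_charDegree (isCharacter_of_irr μ.2),
      Cfsg.Agent.Helper79.irr_charDegree_eq_one_of_comm hC μ, Nat.cast_one]
  have hdeg : charDegree Ψ = ∑ μ : IrrCharacter C, m μ := by
    have h1 : Ψ 1 = ((∑ μ : IrrCharacter C, m μ : ℕ) : ℂ) := by
      conv_lhs => rw [hsum]
      rw [Finset.sum_apply, Nat.cast_sum]
      apply Finset.sum_congr rfl
      intro μ _
      rw [Pi.smul_apply, smul_eq_mul, hm μ, hdeg1, mul_one]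
    rw [Cfsg.Agent.Helper79.isCharacter_one_eq_charDegree hΨ] at h1
    exact_mod_cast h1
  -- the group generated by `l`
  have hord : orderOf l = p := by
    have h1 : orderOf l ∣ p := orderOf_dvd_of_pow_eq_one hlp
    rcases (Nat.dvd_prime hp.out).mp h1 with h | h
    · exact absurd (orderOf_eq_one_iff.mp h) hl1
    · exact h
  have hPg : IsPGroup p (Subgroup.zpowers l) := by
    apply IsPGroup.of_card (n := 1)
    rw [Nat.card_zpowers, hord, pow_one]
  have hfinP : Finite (Subgroup.zpowers l) := by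
    apply Nat.finite_of_card_ne_zero
    rw [Nat.card_zpowers, hord]
    exact hp.out.ne_zero
  obtain ⟨act, hact⟩ : ∃ act : Subgroup.zpowers l → IrrCharacter C → IrrCharacter C,
      ∀ a μ c, (act a μ : C → ℂ) c = ((a.1 c : ℂˣ) : ℂ) * (μ : C → ℂ) c :=
    ⟨fun a μ => ⟨fun c => ((a.1 c : ℂˣ) : ℂ) * (μ : C → ℂ) c,
      Cfsg.Agent.Helper79.isIrrCharacter_twist a.1 μ.2⟩, fun _ _ _ => rfl⟩
  have hact1 : ∀ μ, act 1 μ = μ := by
    intro μ
    apply Subtype.ext
    funext c
    rw [hact]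
    simp
  have hactmul : ∀ a b μ, act (a * b) μ = act a (act b μ) := by
    intro a b μ
    apply Subtype.ext
    funext c
    rw [hact, hact, hact, Subgroup.coe_mul, MonoidHom.mul_apply, Units.val_mul, mul_assoc]
  have hinvm : ∀ a μ, m (act a μ) = m μ := by
    intro a μ
    have h1 : classInner Ψ (act a μ : C → ℂ) = classInner Ψ (μ : C → ℂ) := by
      unfold classInner
      congr 1
      apply Finset.sum_congr rfl
      intro c _
      by_cases hc : Ψ c = 0
      · rw [hc, zero_mul, zero_mul]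
      · have h2 : a.1 c = 1 := by
          obtain ⟨j, hj⟩ := Subgroup.mem_zpowers_iff.mp a.2
          rw [← hj, MonoidHom.zpow_apply, hvan c hc, one_zpow]
        rw [hact, h2, Units.val_one, one_mul]
    rw [hm, hm] at h1
    exact_mod_cast h1
  have hmod := sum_modEq_sum_fixed hPg act hact1 hactmul m hinvm
  have hfix : ∀ μ : IrrCharacter C, ¬ ∀ a, act a μ = μ := by
    intro μ h
    apply hl1
    ext c
    congr 1
    have h1 := congrFun (congrArg Subtype.val (h ⟨l, Subgroup.mem_zpowers l⟩)) c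
    rw [hact] at h1
    obtain ⟨f, hf⟩ := exists_hom_of_linear μ (Cfsg.Agent.Helper79.irr_charDegree_eq_one_of_comm hC μ)
    have h2 : (μ : C → ℂ) c ≠ 0 := by
      rw [← hf, homIrr_apply]
      exact Units.ne_zero _
    have h3 : ((l c : ℂˣ) : ℂ) = 1 := by
      have h4 : ((l c : ℂˣ) : ℂ) * (μ : C → ℂ) c = 1 * (μ : C → ℂ) c := by rw [one_mul]; exact h1
      exact mul_right_cancel₀ h2 h4
    rw [MonoidHom.one_apply]
    exact Units.ext h3
  rw [Finset.sum_congr rfl (fun μ _ => if_neg (hfix μ)), Finset.sum_const_zero] at hmod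
  rw [hdeg]
  exact (Nat.modEq_zero_iff_dvd).mp hmod

variable {G : Type u} [Group G]

/-- A character vanishing on the elements outside a normal subgroup`N` of a cyclic `p`-subgroup
not contained in `N` has degree divisible by `p`. -/
theorem dvd_charDegree_of_vanish_off_normal [Finite G] {p : ℕ} [hp : Fact p.Prime]
    (N : Subgroup G) [N.Normal] {Ψ : G → ℂ} (hΨ : IsCharacter G Ψ) (x : G)
    (hxp : ∃ j : ℕ, orderOf x = p ^ j) (hxN : x ∉ N)
    (hvan : ∀ c ∈ Subgroup.zpowers x, c ∉ N → Ψ c = 0) : p ∣ charDegree Ψ := by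
  classical
  have hC : ∀ a b : Subgroup.zpowers x, a * b = b * a := by
    intro a b
    obtain ⟨i, hi⟩ := Subgroup.mem_zpowers_iff.mp a.2
    obtain ⟨j, hj⟩ := Subgroup.mem_zpowers_iff.mp b.2
    apply Subtype.ext
    rw [Subgroup.coe_mul, Subgroup.coe_mul, ← hi, ← hj, ← zpow_add, ← zpow_add, add_comm]
  obtain ⟨D, hD⟩ : ∃ D : Subgroup (Subgroup.zpowers x), D = N.subgroupOf (Subgroup.zpowers x) :=
    ⟨_, rfl⟩
  have hDn : D.Normal := by
    rw [hD]
    infer_instance
  have hmemD : ∀ c : Subgroup.zpowers x, c ∈ D ↔ (c : G) ∈ N := by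
    intro c
    rw [hD, Subgroup.mem_subgroupOf]
  have hcyc : IsCyclic (Subgroup.zpowers x ⧸ D) :=
    isCyclic_of_surjective (QuotientGroup.mk' D) (QuotientGroup.mk'_surjective D)
  have hpdvd : p ∣ Nat.card (Subgroup.zpowers x ⧸ D) := by
    rw [← Subgroup.index_eq_card]
    obtain ⟨j, hj⟩ := hxp
    have h1 : D.index ∣ p ^ j := by
      rw [← hj, ← Nat.card_zpowers]
      exact Subgroup.index_dvd_card D
    obtain ⟨i, -, hi⟩ := (Nat.dvd_prime_pow hp.out).mp h1
    rw [hi]
    apply dvd_pow_self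
    intro h0
    rw [h0, pow_zero] at hi
    have h2 := Subgroup.index_eq_one.mp hi
    have h3 : (⟨x, Subgroup.mem_zpowers x⟩ : Subgroup.zpowers x) ∈ D := by
      rw [h2]
      exact Subgroup.mem_top _
    exact hxN ((hmemD _).mp h3)
  have hcard := card_hom_pow_eq_one_of_cyclic (C := Subgroup.zpowers x ⧸ D) hpdvd
  have hnt : Nontrivial {β : (Subgroup.zpowers x ⧸ D) →* ℂˣ // ∀ c, β c ^ p = 1} := by
    have hfin : Finite {β : (Subgroup.zpowers x ⧸ D) →* ℂˣ // ∀ c, β c ^ p = 1} := by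
      apply Nat.finite_of_card_ne_zero
      rw [hcard]
      exact hp.out.ne_zero
    rw [← Finite.one_lt_card_iff_nontrivial, hcard]
    exact hp.out.one_lt
  obtain ⟨β, hβ⟩ := exists_ne (⟨1, fun c => by simp⟩ :
    {β : (Subgroup.zpowers x ⧸ D) →* ℂˣ // ∀ c, β c ^ p = 1})
  have hβ1 : β.1 ≠ 1 := fun h => hβ (Subtype.ext h)
  have hres := Cfsg.Agent.Helper79.isCharacter_restrict hΨ (Subgroup.zpowers x)
  have key := dvd_charDegree_of_twist_invariant hC hres (β.1.comp (QuotientGroup.mk' D))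
    (fun h => hβ1 (by
      apply MonoidHom.ext
      intro c
      obtain ⟨g, rfl⟩ := QuotientGroup.mk_surjective c
      have h2 := congrArg (fun F : Subgroup.zpowers x →* ℂˣ => F g) h
      simpa using h2))
    (by
      apply MonoidHom.ext
      intro c
      rw [MonoidHom.pow_apply, MonoidHom.comp_apply, β.2, MonoidHom.one_apply])
    (fun c hc => by
      have h1 : (c : G) ∈ N := by
        by_contra h
        exact hc (hvan c c.2 h)
      rw [MonoidHom.comp_apply, QuotientGroup.mk'_apply,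
        (QuotientGroup.eq_one_iff c).mpr ((hmemD c).mpr h1), map_one])
  rw [charDegree_subgroup_restrict] at key
  exact key

/-- Clifford's degree formula. -/
theorem clifford_degree [Fintype G] (N : Subgroup G) [hN : N.Normal] [Fintype N] {χ : G → ℂ}
    (hχ : IsIrrCharacter G χ) {θ : N → ℂ} (hθ : IsIrrCharacter N θ)
    (hne : classInner (fun n : N => χ n) θ ≠ 0) :
    χ 1 = classInner (fun n : N => χ n) θ *
      (((Cfsg.Agent.Helper3.inertia N θ).index * charDegree θ : ℕ) : ℂ) := by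
  have h := congrFun (Cfsg.Agent.Helper75.clifford_restrict N hχ hθ hne) 1
  rw [Pi.smul_apply, Cfsg.Agent.Helper75.orbitSum_one, smul_eq_mul] at h
  have h1 : χ 1 = χ ((1 : N) : G) := rfl
  rw [h1, h]
  congr 1
  have h2 : Nat.card {g : G // Cfsg.Agent.Helper75.conjFun N g θ = θ} =
      Nat.card (Cfsg.Agent.Helper3.inertia N θ) :=
    Nat.card_congr (Equiv.subtypeEquivRight (fun g => Iff.rfl))
  have h3 : (Nat.card G : ℂ) = ((Cfsg.Agent.Helper3.inertia N θ).index : ℂ) *
      (Nat.card (Cfsg.Agent.Helper3.inertia N θ) : ℂ) := by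
    rw [← Nat.cast_mul, Subgroup.index_mul_card]
  have h4 : (Nat.card (Cfsg.Agent.Helper3.inertia N θ) : ℂ) ≠ 0 := by
    exact_mod_cast Nat.card_pos.ne'
  rw [h2, h3, Cfsg.Agent.Helper79.isCharacter_one_eq_charDegree (isCharacter_of_irr hθ),
    Nat.cast_mul]
  field_simp

/-- The `p`-part of an element of a subgroup lies in the subgroup. -/
theorem ppart_mem_of_mem (N : Subgroup G) {p : ℕ} [hp : Fact p.Prime] {u z : G}
    (h : IsPPart p u z) (hu : u ∈ N) : z ∈ N := by
  obtain ⟨y, hzy, hcomm, ⟨k, hk⟩, hy⟩ := h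
  have hcop : Nat.Coprime (orderOf y) (p ^ k) :=
    Nat.Coprime.pow_right k ((Nat.Prime.coprime_iff_not_dvd hp.out).mpr hy).symm
  have hpos : 0 < Nat.totient (p ^ k) := Nat.totient_pos.mpr (pow_pos hp.out.pos k)
  have h1 : y ^ (orderOf y ^ Nat.totient (p ^ k)) = 1 :=
    orderOf_dvd_iff_pow_eq_one.mp (dvd_pow_self _ hpos.ne')
  have h2 : z ^ (orderOf y ^ Nat.totient (p ^ k)) = z ^ 1 := by
    rw [pow_eq_pow_iff_modEq, hk]
    exact Nat.ModEq.pow_totient hcop
  have h3 : u ^ (orderOf y ^ Nat.totient (p ^ k)) = z := by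
    rw [← hzy, hcomm.mul_pow, h1, h2, pow_one, mul_one]
  rw [← h3]
  exact N.pow_mem hu _

/-- For a `p`-block `B`, a normal subgroup `N`, a character `θ` of `N` and a `p`-element `x`
outside `N`: the sum over `χ ∈ B` of `[χ_N, θ] χ(1)` is divisible by `p`. -/
theorem dvd_sum_block_over [Fintype G] {p : ℕ} [hp : Fact p.Prime] {M : Ideal AlgInt}
    (hM : IsPModular p M) (B : Set (IrrCharacter G)) (hB : IsPBlock M B) (N : Subgroup G)
    [hN : N.Normal] [Fintype N] (θ : N → ℂ) (x : G) (hxp : ∃ j : ℕ, orderOf x = p ^ j)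
    (hxN : x ∉ N) (m : IrrCharacter G → ℕ)
    (hm : ∀ χ : IrrCharacter G, classInner (fun n : N => (χ : G → ℂ) n) θ = (m χ : ℂ))
    [Fintype (IrrCharacter G)] [DecidablePred (· ∈ B)] :
    p ∣ ∑ χ : IrrCharacter G, if χ ∈ B then m χ * charDegree (χ : G → ℂ) else 0 := by
  classical
  have hf : IsClassFunction G (indFun N θ) := Cfsg.Agent.Helper3.indFun_isClassFunction N θ
  have hfvan : ∀ u : G, u ∉ N → indFun N θ u = 0 := by
    intro u hu
    apply Cfsg.Agent.Helper4.indFun_eq_zero_of_forall_not_mem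
    intro y hy
    apply hu
    have := hN.conj_mem _ hy y
    simpa [mul_assoc] using this
  have hinner : ∀ χ : IrrCharacter G, classInner (indFun N θ) (χ : G → ℂ) = (m χ : ℂ) := by
    intro χ
    rw [Cfsg.Agent.Helper3.frobenius_reciprocity N θ χ
      (Cfsg.Agent.Helper15.isClassFunction_of_isChar (isCharacter_of_irr χ.2)),
      Cfsg.Agent.Helper15.classInner_conj_symm, hm, Complex.conj_natCast]
  obtain ⟨Ψ, hΨdef⟩ : ∃ Ψ : G → ℂ, Ψ = ∑ χ : IrrCharacter G,
      (if χ ∈ B then m χ else 0) • (χ : G → ℂ) := ⟨_, rfl⟩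
  have hΨ : IsCharacter G Ψ := by
    rw [hΨdef]
    apply Cfsg.Agent.Helper79.isCharacter_sum
    intro χ _
    exact Cfsg.Agent.Helper79.isCharacter_nsmul (isCharacter_of_irr χ.2) _
  have hbp : blockPart B (indFun N θ) = Ψ := by
    funext g
    unfold blockPart
    rw [Subsingleton.elim (Fintype.ofFinite G) ‹Fintype G›, hΨdef, finsum_mem_def,
      finsum_eq_sum_of_fintype, Finset.sum_apply]
    apply Finset.sum_congr rfl
    intro χ _
    rw [Set.indicator_apply]
    by_cases hχ : χ ∈ B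
    · rw [if_pos hχ, if_pos hχ, hinner, Pi.smul_apply, nsmul_eq_mul]
    · rw [if_neg hχ, if_neg hχ, zero_smul]
      rfl
  have hdeg : charDegree Ψ = ∑ χ : IrrCharacter G,
      if χ ∈ B then m χ * charDegree (χ : G → ℂ) else 0 := by
    have h1 : Ψ 1 = ((∑ χ : IrrCharacter G,
        (if χ ∈ B then m χ * charDegree (χ : G → ℂ) else 0 : ℕ) : ℕ) : ℂ) := by
      rw [hΨdef, Finset.sum_apply, Nat.cast_sum]
      apply Finset.sum_congr rfl
      intro χ _
      rw [Pi.smul_apply, nsmul_eq_mul,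
        Cfsg.Agent.Helper79.isCharacter_one_eq_charDegree (isCharacter_of_irr χ.2)]
      by_cases hχ : χ ∈ B
      · rw [if_pos hχ, if_pos hχ, Nat.cast_mul]
      · rw [if_neg hχ, if_neg hχ, Nat.cast_zero, zero_mul]
    rw [Cfsg.Agent.Helper79.isCharacter_one_eq_charDegree hΨ] at h1
    exact_mod_cast h1
  rw [← hdeg]
  apply dvd_charDegree_of_vanish_off_normal N hΨ x hxp hxN
  intro c hc hcN
  have hcp : ∃ k : ℕ, orderOf c = p ^ k := by
    obtain ⟨j, hj⟩ := hxp
    have h1 : orderOf c ∣ p ^ j := by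
      rw [← hj]
      exact orderOf_dvd_of_mem_zpowers hc
    obtain ⟨i, -, hi⟩ := (Nat.dvd_prime_pow hp.out).mp h1
    exact ⟨i, hi⟩
  rw [← hbp]
  refine (Cfsg.Agent.S0925.result p M hM).1 (indFun N θ) hf c hcp ?_ B hB c c
    ⟨1, mul_one c, Commute.one_right c, hcp, by
      rw [orderOf_one]
      exact hp.out.one_lt.ne' ∘ Nat.dvd_one.mp⟩ (IsConj.refl c)
  intro u z hPP hconj
  apply hfvan
  intro hu
  have hz : z ∈ N := ppart_mem_of_mem N hPP hu
  obtain ⟨g, hg⟩ := isConj_iff.mp hconj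
  apply hcN
  have h1 : c = g⁻¹ * z * g⁻¹⁻¹ := by
    rw [← hg]
    group
  rw [h1]
  exact hN.conj_mem z hz g⁻¹

end Cfsg.Agent.Helper80
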