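import Mathlib
import Cfsg.Agent.Helper94.S43Defs
import Cfsg.Agent.Helper11.SORT
import Cfsg.Agent.Helper97.S43FR

/-! Piece DET of CALL S43 (helper94): a detour through a pure singular tensor. -/

set_option autoImplicit false

namespace Cfsg.Agent.Helper80.S43DET

open Matrix Cfsg.Agent.Helper71.T4 Cfsg.Agent.Helper94.S43
open Cfsg.Agent.Helper71.SO (bl ruw Nuw)
open Cfsg.Agent.Helper11.SORT
open scoped Kronecker

variable {F : Type*} [Field F]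

/-- the pairing of a vector with a pure tensor, row by row -/
theorem det_om_pt (S : Matrix (Fin 3) (Fin 3) F) (x : Fin 4 × Fin 3 → F) (a' : Fin 4 → F)
    (s' : Fin 3 → F) :
    x ⬝ᵥ Om4 S *ᵥ pt a' s' = a' 3 * bl S (fun l => x (0, l)) s' + a' 2 * bl S (fun l => x (1, l)) s'
      - a' 1 * bl S (fun l => x (2, l)) s' - a' 0 * bl S (fun l => x (3, l)) s' := by
  simp only [dotProduct, Matrix.mulVec, Om4, pt, bl, Matrix.kroneckerMap_apply,
    Fintype.sum_prod_type, Fin.sum_univ_four, Fin.sum_univ_three, J4]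
  simp
  ring

/-- the linear functional `a' ↦ a'₃ ρ₀ + a'₂ ρ₁ - a'₁ ρ₂ - a'₀ ρ₃` -/
noncomputable def detL (ρ : Fin 4 → F) : (Fin 4 → F) →ₗ[F] F :=
  ρ 0 • LinearMap.proj 3 + ρ 1 • LinearMap.proj 2 - ρ 2 • LinearMap.proj 1 - ρ 3 • LinearMap.proj 0

theorem detL_apply (ρ a' : Fin 4 → F) :
    detL ρ a' = a' 3 * ρ 0 + a' 2 * ρ 1 - a' 1 * ρ 2 - a' 0 * ρ 3 := by
  simp [detL]
  ring

theorem detL_ne_zero (ρ : Fin 4 → F) (hρ : ρ ≠ 0) : detL ρ ≠ 0 := by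
  intro h
  apply hρ
  have h3 := LinearMap.congr_fun h (Pi.single 3 1)
  have h2 := LinearMap.congr_fun h (Pi.single 2 1)
  have h1 := LinearMap.congr_fun h (Pi.single 1 1)
  have h0 := LinearMap.congr_fun h (Pi.single 0 1)
  rw [detL_apply] at h0 h1 h2 h3
  simp at h0 h1 h2 h3
  funext i
  fin_cases i
  · exact h3
  · exact h2
  · exact h1
  · exact h0

theorem det_avoid3 [Fintype F] (hq : 4 ≤ Fintype.card F)
    (f : Fin 3 → ((Fin 4 → F) →ₗ[F] F)) (hf : ∀ i, f i ≠ 0) : ∃ x, ∀ i, f i x ≠ 0 := by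
  have h := Submodule.iUnion_ssubset_of_forall_ne_top_of_card_lt (Finset.univ : Finset (Fin 3))
    (fun i => LinearMap.ker (f i)) (fun i => by
      intro htop
      exact hf i (LinearMap.ker_eq_top.mp htop))
    (by
      rw [Finset.card_univ, Fintype.card_fin, ENat.card_eq_coe_fintype_card]
      exact_mod_cast (by omega : 3 < Fintype.card F))
  rw [Set.ssubset_univ_iff, Set.ne_univ_iff_exists_notMem] at h
  obtain ⟨x, hx⟩ := h
  refine ⟨x, fun i hi => hx ?_⟩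
  simp only [Set.mem_iUnion, Finset.mem_univ, exists_prop, true_and]
  exact ⟨i, hi⟩

theorem det_quad_avoid [Fintype F] (hq : 5 ≤ Fintype.card F) (c₀ c₁ c₂ d₀ d₁ d₂ : F)
    (hc : ¬ (c₀ = 0 ∧ c₁ = 0 ∧ c₂ = 0)) (hd : ¬ (d₀ = 0 ∧ d₁ = 0 ∧ d₂ = 0)) :
    ∃ t : F, c₂ * t ^ 2 + c₁ * t + c₀ ≠ 0 ∧ d₂ * t ^ 2 + d₁ * t + d₀ ≠ 0 := by
  classical
  obtain ⟨p, hp⟩ : ∃ p : Polynomial F, p = Polynomial.C c₂ * Polynomial.X ^ 2
      + Polynomial.C c₁ * Polynomial.X + Polynomial.C c₀ := ⟨_, rfl⟩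
  obtain ⟨q, hq'⟩ : ∃ q : Polynomial F, q = Polynomial.C d₂ * Polynomial.X ^ 2
      + Polynomial.C d₁ * Polynomial.X + Polynomial.C d₀ := ⟨_, rfl⟩
  have hp0 : p ≠ 0 := by
    intro h
    apply hc
    have h0 : p.coeff 0 = 0 := by rw [h]; simp
    have h1 : p.coeff 1 = 0 := by rw [h]; simp
    have h2 : p.coeff 2 = 0 := by rw [h]; simp
    rw [hp] at h0 h1 h2
    simp [Polynomial.coeff_X, Polynomial.coeff_C] at h0 h1 h2
    exact ⟨h0, h1, h2⟩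
  have hq0 : q ≠ 0 := by
    intro h
    apply hd
    have h0 : q.coeff 0 = 0 := by rw [h]; simp
    have h1 : q.coeff 1 = 0 := by rw [h]; simp
    have h2 : q.coeff 2 = 0 := by rw [h]; simp
    rw [hq'] at h0 h1 h2
    simp [Polynomial.coeff_X, Polynomial.coeff_C] at h0 h1 h2
    exact ⟨h0, h1, h2⟩
  have hpd : p.natDegree ≤ 2 := by
    rw [hp]
    exact Polynomial.natDegree_quadratic_le
  have hqd : q.natDegree ≤ 2 := by
    rw [hq']
    exact Polynomial.natDegree_quadratic_le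
  have hpq : p * q ≠ 0 := mul_ne_zero hp0 hq0
  have hdeg : (p * q).natDegree ≤ 4 := Polynomial.natDegree_mul_le.trans (by omega)
  have hcard : ((p * q).natDegree : Cardinal) < Cardinal.mk F := by
    rw [Cardinal.mk_fintype]
    exact_mod_cast (by omega : (p * q).natDegree < Fintype.card F)
  obtain ⟨t, ht⟩ := Polynomial.exists_eval_ne_zero_of_natDegree_lt_card (p * q) hpq hcard
  rw [Polynomial.eval_mul] at ht
  refine ⟨t, ?_, ?_⟩
  · have h := left_ne_zero_of_mul ht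
    rw [hp] at h
    simpa using h
  · have h := right_ne_zero_of_mul ht
    rw [hq'] at h
    simpa using h

theorem detour4 [Fintype F] (hq : 5 ≤ Fintype.card F) (h2 : (2 : F) ≠ 0)
    (S : Matrix (Fin 3) (Fin 3) F) (hS : Sᵀ = S) (hdet : S.det ≠ 0)
    (v : Fin 4 × Fin 3 → F) (hv : v ≠ 0) (a : Fin 4 → F) (s : Fin 3 → F) (ha : a ≠ 0)
    (hs : s ≠ 0) (hss : bl S s s = 0) (hvp : v + pt a s ≠ 0) :
    ∃ (a' : Fin 4 → F) (s' : Fin 3 → F), bl S s' s' = 0 ∧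
      v ⬝ᵥ Om4 S *ᵥ pt a' s' ≠ 0 ∧ pt a' s' ⬝ᵥ Om4 S *ᵥ pt a s ≠ 0 ∧
      (v + pt a s) ⬝ᵥ Om4 S *ᵥ pt a' s' ≠ 0 := by
  obtain ⟨s₁, e, h11, hss1, hse, hs1e, hee, hexp⟩ :=
    Cfsg.Agent.Helper97.S43FR.hyp_frame3 h2 S hS hdet s hs hss
  have hrow : ∀ x : Fin 4 × Fin 3 → F, x ≠ 0 → ∃ i : Fin 4, (fun l => x (i, l)) ≠ 0 := by
    intro x hx
    by_contra hcon
    simp only [not_exists, not_not] at hcon
    apply hx
    funext ⟨i, l⟩
    exact congrFun (hcon i) l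
  obtain ⟨i₁, hi₁⟩ := hrow v hv
  obtain ⟨i₂, hi₂⟩ := hrow _ hvp
  have hcoef : ∀ y : Fin 3 → F, y ≠ 0 →
      ¬ (bl S y s₁ = 0 ∧ bl S y e = 0 ∧ -(bl S e e / 2) * bl S y s = 0) := by
    rintro y hy ⟨h1, h2', h3⟩
    apply hy
    have h3' : bl S y s = 0 := by
      rcases mul_eq_zero.mp h3 with h | h
      · exfalso
        rcases div_eq_zero_iff.mp (neg_eq_zero.mp h) with h | h
        · exact hee h
        · exact h2 h
      · exact h
    rw [hexp y, h1, h2', h3']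
    simp
  obtain ⟨y₁, hy₁⟩ : ∃ y₁ : Fin 3 → F, y₁ = fun l => v (i₁, l) := ⟨_, rfl⟩
  obtain ⟨y₂, hy₂⟩ : ∃ y₂ : Fin 3 → F, y₂ = fun l => (v + pt a s) (i₂, l) := ⟨_, rfl⟩
  rw [← hy₁] at hi₁
  rw [← hy₂] at hi₂
  obtain ⟨t, ht₁, ht₂⟩ := det_quad_avoid hq (bl S y₁ s₁) (bl S y₁ e)
    (-(bl S e e / 2) * bl S y₁ s) (bl S y₂ s₁) (bl S y₂ e) (-(bl S e e / 2) * bl S y₂ s)
    (hcoef y₁ hi₁) (hcoef y₂ hi₂)
  obtain ⟨s', hs'⟩ : ∃ s' : Fin 3 → F, s' = s₁ + t • e - (t ^ 2 * bl S e e / 2) • s := ⟨_, rfl⟩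
  have hbl : ∀ y : Fin 3 → F,
      bl S y s' = -(bl S e e / 2) * bl S y s * t ^ 2 + bl S y e * t + bl S y s₁ := by
    intro y
    rw [hs', bl_sub_right, bl_add_right, bl_smul_right, bl_smul_right]
    ring
  have e1 : bl S s' s = 1 := by
    rw [bl_comm S hS, hbl, hss, hse, hss1]
    ring
  have e2 : bl S s' e = t * bl S e e := by
    rw [bl_comm S hS, hbl, bl_comm S hS e s, hse, bl_comm S hS e s₁, hs1e]
    ring
  have e3 : bl S s' s₁ = -(bl S e e / 2) * t ^ 2 := by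
    rw [bl_comm S hS, hbl, bl_comm S hS s₁ s, hss1, hs1e, h11]
    ring
  have hs's' : bl S s' s' = 0 := by
    rw [hbl s', e1, e2, e3]
    field_simp
    ring
  obtain ⟨ρ₁, hρ₁⟩ : ∃ ρ₁ : Fin 4 → F, ρ₁ = fun i => bl S (fun l => v (i, l)) s' := ⟨_, rfl⟩
  obtain ⟨ρ₃, hρ₃⟩ : ∃ ρ₃ : Fin 4 → F, ρ₃ = fun i => bl S (fun l => (v + pt a s) (i, l)) s' :=
    ⟨_, rfl⟩
  have hρ₁0 : ρ₁ ≠ 0 := by
    intro h
    have h' := congrFun h i₁
    rw [hρ₁] at h'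
    apply ht₁
    rw [← hbl y₁, hy₁]
    exact h'
  have hρ₃0 : ρ₃ ≠ 0 := by
    intro h
    have h' := congrFun h i₂
    rw [hρ₃] at h'
    apply ht₂
    rw [← hbl y₂, hy₂]
    exact h'
  obtain ⟨a', ha'⟩ := det_avoid3 (by omega) ![detL ρ₁, detL a, detL ρ₃] (by
    intro i
    fin_cases i
    · exact detL_ne_zero ρ₁ hρ₁0
    · exact detL_ne_zero a ha
    · exact detL_ne_zero ρ₃ hρ₃0)
  have ha1 : detL ρ₁ a' ≠ 0 := ha' 0
  have ha2 : detL a a' ≠ 0 := ha' 1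
  have ha3 : detL ρ₃ a' ≠ 0 := ha' 2
  rw [detL_apply] at ha1 ha2 ha3
  refine ⟨a', s', hs's', ?_, ?_, ?_⟩
  · rw [det_om_pt]
    rw [hρ₁] at ha1
    exact ha1
  · rw [det_om_pt]
    have hr : ∀ i : Fin 4, bl S (fun l => pt a' s' (i, l)) s = a' i := by
      intro i
      have hfun : (fun l => pt a' s' (i, l)) = a' i • s' := by
        funext l
        simp [pt]
      rw [hfun, bl_smul_left, e1, mul_one]
    rw [hr, hr, hr, hr]
    intro h
    apply ha2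
    linear_combination -h
  · rw [det_om_pt]
    rw [hρ₃] at ha3
    exact ha3

end Cfsg.Agent.Helper80.S43DET
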