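import Mathlib
import Cfsg.Agent.Helper94.S43Defs
import Cfsg.Agent.Helper80.S43HEL
import Cfsg.Agent.Helper76.S43QALG

/-! Piece QC1 of CALL S43 (helper94): commutators with the radical of `H`. -/

set_option autoImplicit false

namespace Cfsg.Agent.Helper80.S43QC1

open Matrix Cfsg.Agent.Helper71.T4 Cfsg.Agent.Helper94.S43
open Cfsg.Agent.Helper71.SO (bl ruw Nuw)
open scoped Kronecker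

variable {F : Type*} [Field F]

open Cfsg.Agent.Helper80.S43HEL Cfsg.Agent.Helper76.S43QALG in
theorem q_c1 (S : Matrix (Fin 3) (Fin 3) F) (M : Subgroup (GL (Fin 4 × Fin 3) F))
    (hH : HasH4 S M) (hNS : NSX4 M) (X₁ X₂ Z Y₁ Y₂ : Matrix (Fin 3) (Fin 3) F)
    (h : InM M (qmat X₁ X₂ Z Y₁ Y₂)) :
    (∃ α₁ : F, X₁ - Y₂ = α₁ • (1 : Matrix (Fin 3) (Fin 3) F)) ∧
      (∃ α₂ : F, X₂ + Y₁ = α₂ • (1 : Matrix (Fin 3) (Fin 3) F)) := by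
  obtain ⟨ρ, hρM, hρ⟩ := h
  obtain ⟨σ₁, hσ₁M, hσ₁⟩ := hasH_kron_one S M hH (uq4 0 1 0) (uq4_sp 0 1 0)
  obtain ⟨σ₂, hσ₂M, hσ₂⟩ := hasH_kron_one S M hH (uq4 1 0 0) (uq4_sp 1 0 0)
  rw [uq4_kron] at hσ₁ hσ₂
  have e₁ := qmat_comm ρ σ₁ _ _ _ _ _ _ _ _ _ _ hρ hσ₁
  have e₂ := qmat_comm ρ σ₂ _ _ _ _ _ _ _ _ _ _ hρ hσ₂
  have m₁ : ρ * σ₁ * ρ⁻¹ * σ₁⁻¹ ∈ M :=
    M.mul_mem (M.mul_mem (M.mul_mem hρM hσ₁M) (M.inv_mem hρM)) (M.inv_mem hσ₁M)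
  have m₂ : ρ * σ₂ * ρ⁻¹ * σ₂⁻¹ ∈ M :=
    M.mul_mem (M.mul_mem (M.mul_mem hρM hσ₂M) (M.inv_mem hρM)) (M.inv_mem hσ₂M)
  obtain ⟨c₁, hc₁⟩ := hNS _ ⟨_, m₁, e₁⟩
  obtain ⟨c₂, hc₂⟩ := hNS _ ⟨_, m₂, e₂⟩
  constructor
  · refine ⟨c₁, ?_⟩
    rw [← hc₁]
    simp
  · refine ⟨-c₂, ?_⟩
    rw [neg_smul, ← hc₂]
    simp
    abel

end Cfsg.Agent.Helper80.S43QC1
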