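import Mathlib
import Cfsg.Agent.Helper94.S43Defs

/-! Piece QSP of CALL S43 (helper94): the symplectic condition on `qmat`. -/

set_option autoImplicit false

namespace Cfsg.Agent.Helper80.S43QSP

open Matrix Cfsg.Agent.Helper71.T4 Cfsg.Agent.Helper94.S43
open Cfsg.Agent.Helper71.SO (bl ruw Nuw)
open scoped Kronecker

variable {F : Type*} [Field F]

theorem qmat_sp (S : Matrix (Fin 3) (Fin 3) F) (X₁ X₂ Z Y₁ Y₂ : Matrix (Fin 3) (Fin 3) F)
    (h : IsSp4 S (qmat X₁ X₂ Z Y₁ Y₂)) : X₁ᵀ * S = -(S * Y₂) ∧ X₂ᵀ * S = S * Y₁ := by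
  unfold IsSp4 at h
  have hb : ∀ i j, bk ((qmat X₁ X₂ Z Y₁ Y₂)ᵀ * Om4 S * qmat X₁ X₂ Z Y₁ Y₂) i j
      = bk (Om4 S) i j := by
    intro i j
    rw [h]
  have hq : ∀ i j, bk (qmat X₁ X₂ Z Y₁ Y₂) i j
      = (if i = j then 1 else 0) + (if i = 0 ∧ j = 1 then X₁ else 0)
        + (if i = 0 ∧ j = 2 then X₂ else 0) + (if i = 0 ∧ j = 3 then Z else 0)
        + (if i = 1 ∧ j = 3 then Y₁ else 0) + (if i = 2 ∧ j = 3 then Y₂ else 0) := by
    intro i j
    unfold qmat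
    simp only [bk_add, bk_one, bk_EK]
  have h13 := hb 1 3
  have h23 := hb 2 3
  simp only [bk_mul, bk_transpose, hq, Om4, bk_kron, Fin.sum_univ_four, J4] at h13 h23
  simp at h13 h23
  constructor
  · exact eq_neg_of_add_eq_zero_right h13
  · exact (neg_add_eq_zero.mp h23).symm

end Cfsg.Agent.Helper80.S43QSP
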