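import Mathlib
import Cfsg.Agent.Helper47.ELPT0KER

set_option autoImplicit false

/-!
# Sub-CALL S74T2 (helper65), piece SIEGJ: `t2_siegJ`
-/

namespace Cfsg.Agent.Helper80.S74T2

open Module Cfsg Matrix
open scoped MatrixGroups

section sieg

variable {F : Type*} [Field F]

/-- SIEGJ [S]: for `d` even there is `T` with `T - Tᵀ` injective. -/
theorem t2_siegJ (d : ℕ) (hde : Even d) :
    ∃ T : Matrix (Fin d) (Fin d) F, ∀ b : Fin d → F, (T - T.transpose).mulVec b = 0 → b = 0 := by
  refine ⟨Cfsg.Agent.Helper98.ELP.t0 d F, fun b hb => ?_⟩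
  funext i
  have h2 : 2 * (d / 2) = d := Nat.two_mul_div_two_of_even hde
  exact Cfsg.Agent.Helper47.ELP.t0_ker d b hb i (by rw [h2]; exact i.2)

end sieg

end Cfsg.Agent.Helper80.S74T2
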